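import Cfsg.Agent.Lib.H82.Cliff

/-!
# Constituents and degrees
-/

set_option autoImplicit false
set_option linter.style.haveILetI false

namespace H82.Const

open Cfsg H18.CharBasic H18.CharOrtho H18.CharInd H18.CharQuot H82.Deg H82.Simple H82.Cliff
open scoped ComplexConjugate

universe u

variable {G : Type u} [Group G]

theorem charDegree_add {φ ψ : G → ℂ} (hφ : IsCharacter G φ) (hψ : IsCharacter G ψ) :
    charDegree (φ + ψ) = charDegree φ + charDegree ψ := by
  apply charDegree_eq_of
  rw [Pi.add_apply, ← coe_charDegree hφ, ← coe_charDegree hψ]; push_cast; rfl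

theorem charDegree_mul {φ ψ : G → ℂ} (hφ : IsCharacter G φ) (hψ : IsCharacter G ψ) :
    charDegree (φ * ψ) = charDegree φ * charDegree ψ := by
  apply charDegree_eq_of
  rw [Pi.mul_apply, ← coe_charDegree hφ, ← coe_charDegree hψ]; push_cast; rfl

theorem eq_zero_of_charDegree [Finite G] {φ : G → ℂ} (hφ : IsCharacter G φ) (h : charDegree φ = 0) :
    φ = 0 := by
  funext g
  have h1 := char_norm_le hφ g
  rw [← coe_charDegree hφ, h] at h1
  simpa using h1

theorem degree_le_of_constituent [Fintype G] {φ ψ : G → ℂ} (hφ : IsCharacter G φ)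
    (hψ : IsIrrCharacter G ψ) (h : classInner φ ψ ≠ 0) : charDegree ψ ≤ charDegree φ := by
  have h1 := isCharacter_sub_constituent hφ hψ h
  have h2 := charDegree_add h1 (isCharacter_of_isIrr hψ)
  rw [sub_add_cancel] at h2
  omega

theorem eq_of_constituent_of_degree [Fintype G] {φ ψ : G → ℂ} (hφ : IsCharacter G φ)
    (hψ : IsIrrCharacter G ψ) (h : classInner φ ψ ≠ 0) (hd : charDegree φ ≤ charDegree ψ) : φ = ψ := by
  have h1 := isCharacter_sub_constituent hφ hψ h
  have h2 := charDegree_add h1 (isCharacter_of_isIrr hψ)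
  rw [sub_add_cancel] at h2
  have h3 := eq_zero_of_charDegree h1 (by omega)
  exact sub_eq_zero.1 h3

theorem charDegree_ind [Fintype G] (H : Subgroup G) {θ : H → ℂ} (h : IsCharacter H θ) :
    charDegree (indFun H θ) = H.index * charDegree θ := by
  apply charDegree_eq_of
  rw [indFun_one, ← coe_charDegree h]; push_cast; rfl

theorem charDegree_restrict (H : Subgroup G) (χ : G → ℂ) :
    charDegree (fun h : H => χ h) = charDegree χ := rfl

/-- If `d` divides the degrees of all irreducible constituents then it divides the degree. -/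
theorem dvd_degree [Fintype G] {φ : G → ℂ} (hφ : IsCharacter G φ) (d : ℕ)
    (h : ∀ ψ : IrrCharacter G, classInner φ (ψ : G → ℂ) ≠ 0 → d ∣ charDegree (ψ : G → ℂ)) :
    d ∣ charDegree φ := by
  classical
  letI := Fintype.ofFinite (IrrCharacter G)
  have h1 := congrFun (mem_classFun_expand (isClassFunction_of_isCharacter hφ)) 1
  rw [Finset.sum_apply] at h1
  have h2 : ∀ ψ : IrrCharacter G, ∃ k : ℕ, (classInner φ (ψ : G → ℂ) • (ψ : G → ℂ)) 1 = ((d * k : ℕ) : ℂ) := by
    intro ψ
    by_cases h0 : classInner φ (ψ : G → ℂ) = 0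
    · exact ⟨0, by rw [h0]; simp⟩
    · obtain ⟨k, hk⟩ := h ψ h0
      obtain ⟨n, hn⟩ := inner_char_natCast hφ (isCharacter_of_isIrr ψ.2)
      refine ⟨n * k, ?_⟩
      rw [Pi.smul_apply, hn, ← coe_charDegree' ψ, hk, smul_eq_mul]
      push_cast; ring
  choose k hk using h2
  rw [Finset.sum_congr rfl fun ψ _ => hk ψ, ← coe_charDegree hφ] at h1
  have h3 : charDegree φ = ∑ ψ : IrrCharacter G, d * k ψ := by exact_mod_cast h1
  rw [h3]
  exact Finset.dvd_sum fun ψ _ => Dvd.intro _ rfl

end H82.Const
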