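import Cfsg.Agent.Lib.H82.Quot
import Cfsg.Agent.Lib.H31.Clifford
import Cfsg.Prelude.Def_DegreeGraph

/-!
# Degree divisibility from Clifford theory, degree sets of normal subgroups and quotients
-/

set_option autoImplicit false
set_option linter.style.haveILetI false

namespace H82.Cliff

open Cfsg H18.CharBasic H18.CharOrtho H18.CharInd H18.CharQuot H82.Deg H82.Simple H82.Quot H31.Clifford
open scoped ComplexConjugate

universe u

variable {G : Type u} [Group G]

/-- `χ` lies over `θ`. -/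
def LiesOver [Finite G] (N : Subgroup G) (χ : G → ℂ) (θ : N → ℂ) : Prop :=
  letI := Fintype.ofFinite N
  classInner (fun h : N => χ h) θ ≠ 0

theorem liesOver_iff [Finite G] (N : Subgroup G) [inst : Fintype N] (χ : G → ℂ) (θ : N → ℂ) :
    LiesOver N χ θ ↔ classInner (fun h : N => χ h) θ ≠ 0 := by
  unfold LiesOver
  rw [inner_fintype (Fintype.ofFinite N) inst]

theorem exists_liesOver [Finite G] (N : Subgroup G) (θ : IrrCharacter N) :
    ∃ χ : IrrCharacter G, LiesOver N (χ : G → ℂ) (θ : N → ℂ) := by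
  letI := Fintype.ofFinite G
  letI := Fintype.ofFinite N
  obtain ⟨χ, hχ, h⟩ := exists_over N θ.2
  exact ⟨⟨χ, hχ⟩, (liesOver_iff N _ _).2 h⟩

theorem exists_below [Finite G] (N : Subgroup G) (χ : IrrCharacter G) :
    ∃ θ : IrrCharacter N, LiesOver N (χ : G → ℂ) (θ : N → ℂ) := by
  letI := Fintype.ofFinite G
  letI := Fintype.ofFinite N
  obtain ⟨θ, hθ, h⟩ := exists_constituent_restrict N χ.2
  exact ⟨⟨θ, hθ⟩, (liesOver_iff N _ _).2 h⟩

/-- Clifford: the degree of `χ` over `θ` is divisible by `|G : T_θ| θ(1)`. -/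
theorem degree_dvd_of_liesOver [Finite G] (N : Subgroup G) [N.Normal] (χ : IrrCharacter G)
    (θ : IrrCharacter N) (h : LiesOver N (χ : G → ℂ) (θ : N → ℂ)) :
    (inertia N (θ : N → ℂ)).index * charDegree (θ : N → ℂ) ∣ charDegree (χ : G → ℂ) := by
  letI := Fintype.ofFinite G
  letI := Fintype.ofFinite N
  rw [liesOver_iff] at h
  have h1 := degree_eq N χ.2 θ.2 h
  obtain ⟨m, hm⟩ := inner_char_natCast (isCharacter_restrict N (isCharacter_of_isIrr χ.2))
    (isCharacter_of_isIrr θ.2)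
  rw [hm, ← coe_charDegree' χ, ← coe_charDegree' θ] at h1
  have h2 : charDegree (χ : G → ℂ) = m * (inertia N (θ : N → ℂ)).index * charDegree (θ : N → ℂ) := by
    exact_mod_cast h1
  exact ⟨m, by rw [h2]; ring⟩

theorem degree_dvd_of_liesOver' [Finite G] (N : Subgroup G) [N.Normal] (χ : IrrCharacter G)
    (θ : IrrCharacter N) (h : LiesOver N (χ : G → ℂ) (θ : N → ℂ)) :
    charDegree (θ : N → ℂ) ∣ charDegree (χ : G → ℂ) :=
  (Dvd.intro_left _ rfl).trans (degree_dvd_of_liesOver N χ θ h)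

theorem degreePrimes_quot [Finite G] (N : Subgroup G) [N.Normal] :
    degreePrimes (G ⧸ N) ⊆ degreePrimes G := by
  rintro p ⟨hp, d, ⟨χ, rfl⟩, hd⟩
  exact ⟨hp, _, ⟨⟨_, isIrrCharacter_inflate N χ.2⟩, rfl⟩, hd⟩

theorem degreePrimes_normal [Finite G] (N : Subgroup G) [N.Normal] :
    degreePrimes N ⊆ degreePrimes G := by
  rintro p ⟨hp, d, ⟨θ, rfl⟩, hd⟩
  obtain ⟨χ, hχ⟩ := exists_liesOver N θ
  exact ⟨hp, _, ⟨χ, rfl⟩, hd.trans (degree_dvd_of_liesOver' N χ θ hχ)⟩

theorem degreePrimes_dvd_card [Finite G] {p : ℕ} (h : p ∈ degreePrimes G) : p ∣ Nat.card G := by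
  obtain ⟨_, d, ⟨χ, rfl⟩, hd⟩ := h
  exact hd.trans (degree_dvd_card χ)

end H82.Cliff
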