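import Mathlib

/-!
# Transitive actions on elementary abelian groups: a counting argument (towards Gagola's theorem)
-/

set_option linter.style.haveILetI false
set_option linter.style.longLine false

namespace H82.GagAct

/-- automorphisms commuting with an irreducible set of automorphisms commute with each other -/
theorem comm_of_irred {N : Type*} [CommGroup N] [Finite N] [Nontrivial N] (S : Set (MulAut N))
    (hirr : ∀ W : Subgroup N, (∀ c ∈ S, ∀ w ∈ W, c w ∈ W) → W = ⊥ ∨ W = ⊤) (a b : MulAut N)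
    (ha : ∀ c ∈ S, a * c = c * a) (hb : ∀ c ∈ S, b * c = c * b) : a * b = b * a := by
  classical
  let E : MulAut N → AddMonoid.End (Additive N) := fun c => MonoidHom.toAdditive c.toMonoidHom
  have hEapp : ∀ (c : MulAut N) (x : N), E c (Additive.ofMul x) = Additive.ofMul (c x) := fun _ _ => rfl
  have hEmul : ∀ c d : MulAut N, E (c * d) = E c * E d := fun _ _ => rfl
  let D : Subring (AddMonoid.End (Additive N)) := Subring.centralizer (E '' S)
  haveI : Finite (AddMonoid.End (Additive N)) :=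
    Finite.of_injective (fun f : AddMonoid.End (Additive N) => (f : Additive N → Additive N))
      DFunLike.coe_injective
  haveI : Finite D := inferInstance
  haveI : Nontrivial (AddMonoid.End (Additive N)) := by
    obtain ⟨x, hx⟩ := exists_ne (1 : N)
    refine ⟨⟨0, 1, fun h => hx ?_⟩⟩
    have := DFunLike.congr_fun h (Additive.ofMul x)
    exact (Additive.ofMul.injective this).symm
  have hker : ∀ f : D, f ≠ 0 → Function.Injective (f : AddMonoid.End (Additive N)) := by
    intro f hf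
    have hfS : ∀ c ∈ S, ∀ x : N, (f : AddMonoid.End (Additive N)) (Additive.ofMul (c x)) =
        E c ((f : AddMonoid.End (Additive N)) (Additive.ofMul x)) := by
      intro c hc x
      have h1 := (Subring.mem_centralizer_iff.1 f.2) (E c) ⟨c, hc, rfl⟩
      have h2 := DFunLike.congr_fun h1 (Additive.ofMul x)
      exact h2.symm
    let W : Subgroup N := AddSubgroup.toSubgroup'
      (AddMonoidHom.ker (f : AddMonoid.End (Additive N)) : AddSubgroup (Additive N))
    have hW : ∀ x : N, x ∈ W ↔ (f : AddMonoid.End (Additive N)) (Additive.ofMul x) = 0 := fun x => Iff.rfl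
    rcases hirr W (by
      intro c hc w hw
      rw [hW] at hw ⊢
      rw [hfS c hc w, hw, map_zero]) with h | h
    · rw [injective_iff_map_eq_zero]
      intro x hx
      have h3 : (Additive.toMul x) ∈ W := (hW _).2 hx
      rw [h, Subgroup.mem_bot] at h3
      exact h3
    · exfalso
      apply hf
      apply Subtype.ext
      apply DFunLike.ext
      intro x
      have h3 : (Additive.toMul x) ∈ W := by rw [h]; exact Subgroup.mem_top _
      exact (hW _).1 h3
  haveI : NoZeroDivisors D := by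
    refine ⟨fun {f g} hfg => ?_⟩
    by_cases hf : f = 0
    · exact Or.inl hf
    · right
      apply Subtype.ext
      apply DFunLike.ext
      intro x
      have h1 := DFunLike.congr_fun (congrArg Subtype.val hfg) x
      have h2 : (f : AddMonoid.End (Additive N)) ((g : AddMonoid.End (Additive N)) x) = 0 := h1
      exact (map_eq_zero_iff _ (hker f hf)).1 h2
  haveI : IsDomain D := NoZeroDivisors.to_isDomain D
  have hF := Finite.isDomain_to_isField D
  have hab := hF.mul_comm ⟨E a, by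
    rw [Subring.mem_centralizer_iff]
    rintro _ ⟨c, hc, rfl⟩
    rw [← hEmul, ← hEmul, ha c hc]⟩ ⟨E b, by
    rw [Subring.mem_centralizer_iff]
    rintro _ ⟨c, hc, rfl⟩
    rw [← hEmul, ← hEmul, hb c hc]⟩
  have h1 := congrArg Subtype.val hab
  ext x
  exact Additive.ofMul.injective (DFunLike.congr_fun h1 (Additive.ofMul x))

variable {H N : Type*} [Group H] [Finite H] [CommGroup N] [Finite N]

/-- a reducible normal subgroup of a transitive group has a small invariant subgroup -/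
theorem exists_small (φ : H →* MulAut N) (C : Subgroup H) [hCn : C.Normal]
    (htrans : ∀ x y : N, x ≠ 1 → y ≠ 1 → ∃ h, φ h x = y)
    (hred : ∃ W : Subgroup N, (∀ c ∈ C, ∀ w ∈ W, φ c w ∈ W) ∧ W ≠ ⊥ ∧ W ≠ ⊤) :
    ∃ W : Subgroup N, (∀ c ∈ C, ∀ w ∈ W, φ c w ∈ W) ∧ W ≠ ⊥ ∧ Nat.card W ^ 2 ≤ Nat.card N := by
  classical
  obtain ⟨W0, h0inv, h0b, h0t⟩ := hred
  let P : ℕ → Prop := fun n => ∃ W : Subgroup N, (∀ c ∈ C, ∀ w ∈ W, φ c w ∈ W) ∧ W ≠ ⊥ ∧ Nat.card W = n
  have hP : ∃ n, P n := ⟨_, W0, h0inv, h0b, rfl⟩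
  obtain ⟨W, hinv, hb, hc⟩ := Nat.find_spec hP
  have hmin : ∀ W' : Subgroup N, (∀ c ∈ C, ∀ w ∈ W', φ c w ∈ W') → W' ≠ ⊥ → Nat.card W ≤ Nat.card W' := by
    intro W' h1 h2
    rw [hc]
    exact Nat.find_min' hP ⟨W', h1, h2, rfl⟩
  refine ⟨W, hinv, hb, ?_⟩
  have hWt : W ≠ ⊤ := by
    intro h
    apply h0t
    have h1 := hmin W0 h0inv h0b
    rw [h] at h1
    exact Subgroup.eq_top_of_le_card _ (by rw [← Subgroup.card_top (G := N)]; exact h1)
  obtain ⟨y, hy⟩ : ∃ y : N, y ∉ W := by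
    by_contra hcon
    push Not at hcon
    exact hWt ((Subgroup.eq_top_iff' W).2 hcon)
  obtain ⟨x, hx, hx1⟩ : ∃ x ∈ W, x ≠ 1 := by
    by_contra hcon
    push Not at hcon
    exact hb (by rw [eq_bot_iff]; exact fun k hk => hcon k hk)
  obtain ⟨h, hh⟩ := htrans x y hx1 (fun h1 => hy (by rw [h1]; exact W.one_mem))
  set W' := W.map (φ h).toMonoidHom with hW'
  have hinv' : ∀ c ∈ C, ∀ w ∈ W', φ c w ∈ W' := by
    rintro c hcC _ ⟨w, hw, rfl⟩
    refine ⟨φ (h⁻¹ * c * h) w, hinv _ (by simpa using hCn.conj_mem c hcC h⁻¹) w hw, ?_⟩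
    change φ h (φ (h⁻¹ * c * h) w) = φ c (φ h w)
    rw [← MulAut.mul_apply, ← MulAut.mul_apply, ← map_mul, ← map_mul]
    congr 2
    group
  have hcardW' : Nat.card W' = Nat.card W :=
    (Nat.card_congr (W.equivMapOfInjective _ (φ h).injective).toEquiv).symm
  have hdis : W ⊓ W' = ⊥ := by
    by_contra hne
    have h1 := hmin (W ⊓ W') (fun c hcC w hw => ⟨hinv c hcC w hw.1, hinv' c hcC w hw.2⟩) hne
    have h2 : W ⊓ W' = W := Subgroup.eq_of_le_of_card_ge inf_le_left h1
    have h3 : W ≤ W' := by rw [← h2]; exact inf_le_right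
    have h4 : W = W' := Subgroup.eq_of_le_of_card_ge h3 hcardW'.le
    apply hy
    rw [h4]
    exact ⟨x, hx, hh⟩
  have hinj := Subgroup.mul_injective_of_disjoint (disjoint_iff.2 hdis)
  have h5 := Nat.card_le_card_of_injective _ hinj
  rw [Nat.card_prod, hcardW'] at h5
  rw [pow_two]
  exact h5

theorem arith {n a o b w : ℕ} (hN : ∃ k, n = 3 ^ k) (hW : ∃ k, w = 3 ^ k) (hw1 : w ≠ 1)
    (ho : o ≤ w - 1) (hwn : w ^ 2 ≤ n) (h2 : 2 ∣ o * 3 ^ b)
    (h : (n - 1) * 3 ^ a = 24 * (o * 3 ^ b)) : False := by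
  obtain ⟨k, hk⟩ := hN
  obtain ⟨l, hl⟩ := hW
  have hl0 : l ≠ 0 := by rintro rfl; rw [pow_zero] at hl; exact hw1 hl
  have hw3 : 3 ≤ w := by rw [hl]; exact Nat.le_self_pow hl0 3
  have hk0 : k ≠ 0 := by
    rintro rfl
    rw [pow_zero] at hk
    rw [hk] at hwn
    nlinarith
  have hcop : Nat.Coprime (n - 1) 3 := by
    rw [Nat.coprime_comm, Nat.Prime.coprime_iff_not_dvd Nat.prime_three]
    intro hd
    have h3 : 3 ∣ n := by rw [hk]; exact dvd_pow_self 3 hk0
    have hn1 : 1 ≤ n := by rw [hk]; exact Nat.one_le_pow _ _ (by norm_num)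
    omega
  have h2o : 2 ∣ o := (Nat.Coprime.dvd_mul_right (Nat.Coprime.pow_right b (by norm_num))).1 h2
  have hdvd : n - 1 ∣ 8 * o := by
    have h3 : n - 1 ∣ (8 * o) * 3 ^ (b + 1) := ⟨3 ^ a, by rw [h]; ring⟩
    exact Nat.Coprime.dvd_of_dvd_mul_right (Nat.Coprime.pow_right _ hcop) h3
  have ho0 : o ≠ 0 := by
    rintro rfl
    rw [zero_mul, mul_zero] at h
    have h4 : n - 1 = 0 := by
      rcases Nat.mul_eq_zero.1 h with h5 | h5
      · exact h5
      · exact absurd h5 (pow_ne_zero _ (by norm_num))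
    nlinarith [Nat.sub_eq_zero_iff_le.1 h4]
  have hle : n - 1 ≤ 8 * o := Nat.le_of_dvd (by omega) hdvd
  have hw7 : w ≤ 7 := by
    by_contra hcon
    push Not at hcon
    have h5 : w ^ 2 ≤ 8 * (w - 1) + 1 := by omega
    obtain ⟨v, rfl⟩ := Nat.exists_eq_add_of_le hcon
    have h6 : 7 + 1 + v - 1 = 7 + v := by omega
    rw [Nat.succ_eq_add_one, h6] at h5
    nlinarith
  have hl1 : l = 1 := by
    by_contra hne
    have h6 : 2 ≤ l := by omega
    have h7 : 3 ^ 2 ≤ 3 ^ l := Nat.pow_le_pow_right (by norm_num) h6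
    omega
  rw [hl1, pow_one] at hl
  subst hl
  have ho2 : o = 2 := by omega
  subst ho2
  have hk2 : k = 2 := by
    have h8 : 3 ^ k ≤ 17 := by omega
    have h9 : 9 ≤ 3 ^ k := by rw [← hk]; exact hwn
    have h10 : k < 3 := by
      by_contra hcon
      push Not at hcon
      have : 3 ^ 3 ≤ 3 ^ k := Nat.pow_le_pow_right (by norm_num) hcon
      omega
    have h11 : 1 < k := by
      by_contra hcon
      push Not at hcon
      have : 3 ^ k ≤ 3 ^ 1 := Nat.pow_le_pow_right (by norm_num) hcon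
      omega
    omega
  rw [hk2] at hk
  subst hk
  have h12 : 3 ^ a = 2 * (3 ^ (b + 1)) := by
    have : 8 * 3 ^ a = 8 * (2 * 3 ^ (b + 1)) := by
      rw [pow_succ]
      norm_num at h
      omega
    omega
  have h13 : Odd (3 ^ a) := Odd.pow (by decide)
  rw [h12] at h13
  exact (Nat.not_odd_iff_even.2 (even_two_mul _)) h13

/-- The configuration with `|H : C| = 24` does not occur. -/
theorem not_index_eq (φ : H →* MulAut N) (C : Subgroup H) [hCn : C.Normal] [Nontrivial N]
    (hN : IsPGroup 3 N)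
    (htrans : ∀ x y : N, x ≠ 1 → y ≠ 1 → ∃ h, φ h x = y)
    (hstab : ∀ x : N, x ≠ 1 → ∀ h, φ h x = x → ∃ k : ℕ, h ^ 3 ^ k = 1)
    (hC : C.index = 24) (hC2 : 2 ∣ Nat.card C) (a b : MulAut N) (hab : a * b ≠ b * a)
    (ha : ∀ c ∈ C, a * φ c = φ c * a) (hb : ∀ c ∈ C, b * φ c = φ c * b) : False := by
  classical
  haveI : Fact (Nat.Prime 3) := ⟨Nat.prime_three⟩
  have hred : ∃ W : Subgroup N, (∀ c ∈ C, ∀ w ∈ W, φ c w ∈ W) ∧ W ≠ ⊥ ∧ W ≠ ⊤ := by
    by_contra hcon
    push Not at hcon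
    apply hab
    refine comm_of_irred (φ '' (C : Set H)) (fun W hW => ?_) a b ?_ ?_
    · by_cases h1 : W = ⊥
      · exact Or.inl h1
      · exact Or.inr (hcon W (fun c hc w hw => hW (φ c) ⟨c, hc, rfl⟩ w hw) h1)
    · rintro _ ⟨c, hc, rfl⟩
      exact ha c hc
    · rintro _ ⟨c, hc, rfl⟩
      exact hb c hc
  obtain ⟨W, hWinv, hWb, hWc⟩ := exists_small φ C htrans hred
  obtain ⟨x, hx, hx1⟩ : ∃ x ∈ W, x ≠ 1 := by
    by_contra hcon
    push Not at hcon
    exact hWb (by rw [eq_bot_iff]; exact fun k hk => hcon k hk)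
  letI act : MulAction H N := MulAction.compHom N φ
  have hsmul : ∀ (h : H) (y : N), h • y = φ h y := fun _ _ => rfl
  have hSH : ∃ k, Nat.card (MulAction.stabilizer H x) = 3 ^ k := by
    apply IsPGroup.iff_card.1
    intro h
    obtain ⟨k, hk⟩ := hstab x hx1 h (MulAction.mem_stabilizer_iff.1 h.2)
    exact ⟨k, Subtype.ext hk⟩
  have hSC : ∃ k, Nat.card (MulAction.stabilizer C x) = 3 ^ k := by
    apply IsPGroup.iff_card.1
    intro h
    obtain ⟨k, hk⟩ := hstab x hx1 (h : C) (MulAction.mem_stabilizer_iff.1 h.2)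
    exact ⟨k, Subtype.ext (Subtype.ext hk)⟩
  obtain ⟨s, hs⟩ := hSH
  obtain ⟨t, ht⟩ := hSC
  have hoH : Nat.card (MulAction.orbit H x) = Nat.card N - 1 := by
    have h1 : MulAction.orbit H x = {y : N | y ≠ 1} := by
      ext y
      constructor
      · rintro ⟨h, rfl⟩
        intro h2
        apply hx1
        have h3 : φ h x = 1 := h2
        exact (MulEquiv.map_eq_one_iff (φ h)).1 h3
      · intro hy
        obtain ⟨h, hh⟩ := htrans x y hx1 hy
        exact ⟨h, hh⟩
    rw [h1]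
    have h2 : Nat.card {y : N // y ≠ 1} = Nat.card N - 1 := by
      letI := Fintype.ofFinite N
      rw [Nat.card_eq_fintype_card, Fintype.card_subtype_compl, Nat.card_eq_fintype_card,
        Fintype.card_subtype_eq]
    exact h2
  have hoC : Nat.card (MulAction.orbit C x) ≤ Nat.card W - 1 := by
    have h1 : ∀ y : MulAction.orbit C x, (y : N) ∈ W ∧ (y : N) ≠ 1 := by
      rintro ⟨_, ⟨c, rfl⟩⟩
      refine ⟨hWinv c c.2 x hx, fun h2 => hx1 ?_⟩
      have h3 : φ (c : H) x = 1 := h2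
      exact (MulEquiv.map_eq_one_iff (φ (c : H))).1 h3
    have h2 : Nat.card {y : W // y ≠ 1} = Nat.card W - 1 := by
      letI := Fintype.ofFinite W
      rw [Nat.card_eq_fintype_card, Fintype.card_subtype_compl, Nat.card_eq_fintype_card,
        Fintype.card_subtype_eq]
    rw [← h2]
    refine Nat.card_le_card_of_injective (fun y => ⟨⟨y.1, (h1 y).1⟩, fun h => (h1 y).2 (congrArg Subtype.val h)⟩) ?_
    intro y z hyz
    exact Subtype.ext (congrArg (fun v => ((v : {y : W // y ≠ 1}) : W).1) hyz)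
  have h1 : Nat.card (MulAction.orbit H x) * Nat.card (MulAction.stabilizer H x) = Nat.card H := by
    rw [Nat.card_coe_set_eq, ← MulAction.index_stabilizer, mul_comm, Subgroup.card_mul_index]
  have h2 : Nat.card (MulAction.orbit C x) * Nat.card (MulAction.stabilizer C x) = Nat.card C := by
    rw [Nat.card_coe_set_eq, ← MulAction.index_stabilizer, mul_comm, Subgroup.card_mul_index]
  have h3 := C.card_mul_index
  have hWp : ∃ k, Nat.card W = 3 ^ k := IsPGroup.iff_card.1 (hN.to_subgroup W)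
  have hW1 : Nat.card W ≠ 1 := fun h => hWb (Subgroup.card_eq_one.1 h)
  refine arith (n := Nat.card N) (a := s) (o := Nat.card (MulAction.orbit C x)) (b := t)
    (w := Nat.card W) (IsPGroup.iff_card.1 hN) hWp hW1 hoC hWc ?_ ?_
  · rw [← ht, h2]; exact hC2
  · rw [← ht, h2, ← hs, ← hoH, h1, ← h3, hC]; ring

end H82.GagAct
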