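import Cfsg.Agent.Lib.H82.Rel

/-!
# Relative degree sets: degrees over a character of a normal subgroup
-/

set_option autoImplicit false
set_option linter.style.haveILetI false

namespace H82.Rel

open Cfsg Representation H18.CharBasic H18.CharOrtho H18.CharInd H18.CharQuot H31.Clifford
open H82.Deg H82.Simple H82.Quot H82.Cliff H82.Det
open scoped ComplexConjugate

universe u

variable {G : Type u} [Group G] {N : Subgroup G}

/-- `d` is the degree of an irreducible character of `G` over `θ`. -/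
def Ov [Finite G] (θ : IrrCharacter N) (d : ℕ) : Prop :=
  ∃ χ : IrrCharacter G, LiesOver N (χ : G → ℂ) (θ : N → ℂ) ∧ charDegree (χ : G → ℂ) = d

theorem exists_ov [Finite G] (θ : IrrCharacter N) : ∃ d, Ov θ d := by
  obtain ⟨χ, hχ⟩ := exists_liesOver N θ
  exact ⟨_, χ, hχ, rfl⟩

theorem ov_dvd [Finite G] [hN : N.Normal] {θ : IrrCharacter N} {d : ℕ} (h : Ov θ d) :
    (St θ).index * charDegree (θ : N → ℂ) ∣ d := by
  obtain ⟨χ, hχ, rfl⟩ := h
  exact degree_dvd_of_liesOver N χ θ hχ

theorem ov_pos [Finite G] {θ : IrrCharacter N} {d : ℕ} (h : Ov θ d) : 0 < d := by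
  obtain ⟨χ, hχ, rfl⟩ := h
  exact charDegree_pos χ

theorem over_of_liesOver_triv [Finite G] [hN : N.Normal] (χ : IrrCharacter G)
    (h : ∀ θ : IrrCharacter N, LiesOver N (χ : G → ℂ) (θ : N → ℂ) → θ = triv N) : Over N χ := by
  classical
  letI := Fintype.ofFinite G
  letI := Fintype.ofFinite N
  obtain ⟨θ, hθ⟩ := exists_below N χ
  have h1 := h θ hθ
  subst h1
  rw [liesOver_iff] at hθ
  have h2 := restrict_eq N χ.2 (triv N).2 hθ
  have h3 : orb N (triv N : N → ℂ) = {(triv N : N → ℂ)} := by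
    ext φ
    rw [mem_orb, Finset.mem_singleton]
    constructor
    · rintro ⟨g, rfl⟩; rfl
    · rintro rfl; exact ⟨1, rfl⟩
  rw [h3, Finset.sum_singleton] at h2
  intro n hn
  have h4 := congrFun h2 ⟨n, hn⟩
  have h5 := congrFun h2 1
  simp only [Pi.smul_apply, smul_eq_mul] at h4 h5
  rw [h4]
  rw [show (χ : G → ℂ) 1 = (χ : G → ℂ) ((1 : N) : G) from rfl, h5]
  rfl

theorem not_over_of_liesOver [Finite G] [hN : N.Normal] (χ : IrrCharacter G) {θ : IrrCharacter N}
    (hθ : θ ≠ triv N) (h : LiesOver N (χ : G → ℂ) (θ : N → ℂ)) : ¬ Over N χ := by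
  classical
  letI := Fintype.ofFinite G
  letI := Fintype.ofFinite N
  intro hov
  rw [liesOver_iff] at h
  apply h
  have h2 : (fun x : N => (χ : G → ℂ) x) = ((χ : G → ℂ) 1) • (triv N : N → ℂ) := by
    funext n
    simp only [Pi.smul_apply, smul_eq_mul, triv_apply, mul_one]
    exact hov n n.2
  rw [h2, H18.CharOrtho.inner_smul_left, inner_irr_ne (triv N).2 θ.2 (fun h3 => hθ (Subtype.ext h3.symm)),
    mul_zero]

theorem rel_iff [Finite G] [hN : N.Normal] {d : ℕ} :
    d ∈ relCharDegrees N ↔ ∃ θ : IrrCharacter N, θ ≠ triv N ∧ Ov θ d := by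
  constructor
  · rintro ⟨χ, ⟨x, hx, hne⟩, rfl⟩
    by_contra hcon
    push Not at hcon
    have := over_of_liesOver_triv χ (fun θ hθ => by
      by_contra h1
      exact hcon θ h1 ⟨χ, hθ, rfl⟩)
    exact hne (this x hx)
  · rintro ⟨θ, hθ, χ, hχ, rfl⟩
    have h1 := not_over_of_liesOver χ hθ hχ
    unfold Over at h1
    push Not at h1
    obtain ⟨x, hx, hne⟩ := h1
    exact ⟨χ, ⟨x, hx, hne⟩, rfl⟩

theorem mem_rel [Finite G] [hN : N.Normal] {θ : IrrCharacter N} (hθ : θ ≠ triv N) {d : ℕ}
    (h : Ov θ d) : d ∈ relCharDegrees N := rel_iff.2 ⟨θ, hθ, h⟩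

theorem ov_triv_one [Finite G] : Ov (triv N) 1 := by
  classical
  letI := Fintype.ofFinite N
  refine ⟨triv G, ?_, charDegree_triv⟩
  rw [liesOver_iff]
  have h1 : (fun h : N => (triv G : G → ℂ) h) = (triv N : N → ℂ) := rfl
  rw [h1, inner_irr_self (triv N).2]
  exact one_ne_zero

/-- Twisting by an invariant linear character does not change the inertia group. -/
theorem St_tw_of_invariant [Finite G] [hN : N.Normal] {f : Lin N} (hf : ∀ g : G, g • f = f)
    (θ : IrrCharacter N) : St (tw f θ) = St θ := by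
  have htop : MulAction.stabilizer G f = ⊤ := by
    rw [eq_top_iff]; intro g _; exact hf g
  apply le_antisymm
  · have := St_tw_inf (G := G) f θ
    rwa [htop, inf_top_eq] at this
  · have := inf_St_le_tw (G := G) f θ
    rwa [htop, top_inf_eq] at this

/-- The determinant relation between degrees over `θ` and over a twist of `θ` by an invariant
linear character. -/
theorem ov_twist [Finite G] [hN : N.Normal] (hNG : N ≤ commutator G) {f : Lin N}
    (hf : ∀ g : G, g • f = f) {θ : IrrCharacter N} {a b : ℕ} (ha : Ov θ a) (hb : Ov (tw f θ) b) :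
    ∃ e : ℕ, b = e * ((St θ).index * charDegree (θ : N → ℂ)) ∧ f ^ (a * e) = 1 := by
  classical
  letI := Fintype.ofFinite G
  letI := Fintype.ofFinite N
  obtain ⟨χ, hχ, rfl⟩ := ha
  obtain ⟨η, hη, rfl⟩ := hb
  rw [liesOver_iff] at hχ hη
  have h1 := restrict_eq N χ.2 θ.2 hχ
  have h2 := restrict_eq N η.2 (tw f θ).2 hη
  have h3 := degree_eq N η.2 (tw f θ).2 hη
  obtain ⟨e, he⟩ := inner_char_natCast (isCharacter_restrict N (isCharacter_of_isIrr χ.2))
    (isCharacter_of_isIrr θ.2)
  obtain ⟨e', he'⟩ := inner_char_natCast (isCharacter_restrict N (isCharacter_of_isIrr η.2))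
    (isCharacter_of_isIrr (tw f θ).2)
  rw [he] at h1
  rw [he'] at h2 h3
  refine ⟨e', ?_, ?_⟩
  · rw [← coe_charDegree' η, ← coe_charDegree' (tw f θ), charDegree_tw] at h3
    have h4 : (inertia N (tw f θ : N → ℂ)) = St θ := St_tw_of_invariant hf θ
    rw [h4] at h3
    have h5 : charDegree (η : G → ℂ) = e' * (St θ).index * charDegree (θ : N → ℂ) := by exact_mod_cast h3
    rw [h5]; ring
  · -- orbits
    have hcj : ∀ g : G, cjH N g f.hom = f.hom := by
      intro g
      have h4 : g⁻¹ • f = f := hf g⁻¹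
      rw [inv_smul_eq] at h4
      exact h4
    have horb : orb N (tw f θ : N → ℂ) = (orb N (θ : N → ℂ)).image (fun φ n => (f.hom n : ℂ) * φ n) := by
      ext φ
      simp only [mem_orb, Finset.mem_image]
      constructor
      · rintro ⟨g, rfl⟩
        refine ⟨conjFunN N g (θ : N → ℂ), ⟨g, rfl⟩, ?_⟩
        rw [show (tw f θ : N → ℂ) = fun n => (f.hom n : ℂ) * (θ : N → ℂ) n from rfl, conj_hom_mul, hcj]
      · rintro ⟨_, ⟨g, rfl⟩, rfl⟩
        refine ⟨g, ?_⟩
        rw [show (tw f θ : N → ℂ) = fun n => (f.hom n : ℂ) * (θ : N → ℂ) n from rfl, conj_hom_mul, hcj]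
    have hinj : Function.Injective (fun (φ : N → ℂ) n => (f.hom n : ℂ) * φ n) := by
      intro φ ψ hφψ
      funext n
      have := congrFun hφψ n
      exact mul_left_cancel₀ (Units.ne_zero _) this
    have hsum : ∑ φ ∈ orb N (tw f θ : N → ℂ), φ =
        fun n => (f.hom n : ℂ) * (∑ φ ∈ orb N (θ : N → ℂ), φ) n := by
      rw [horb, Finset.sum_image (fun _ _ _ _ h => hinj h)]
      funext n
      rw [Finset.sum_apply, Finset.sum_apply, Finset.mul_sum]
    rw [hsum] at h2
    -- `e' • (f χ_N) = e • η_N`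
    have hχc : IsCharacter N (fun n : N => (χ : G → ℂ) n) := isCharacter_restrict N (isCharacter_of_isIrr χ.2)
    have hηc : IsCharacter N (fun n : N => (η : G → ℂ) n) := isCharacter_restrict N (isCharacter_of_isIrr η.2)
    have hkey : e' • (fun n : N => (f.hom n : ℂ) * (χ : G → ℂ) n) = e • (fun n : N => (η : G → ℂ) n) := by
      rw [h2]
      have h4 : ∀ n : N, (χ : G → ℂ) n = (e : ℂ) * (∑ φ ∈ orb N (θ : N → ℂ), φ) n := fun n => congrFun h1 n
      funext n
      simp only [Pi.smul_apply, nsmul_eq_mul, smul_eq_mul]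
      rw [h4 n]
      ring
    have hd := congrArg dt hkey
    rw [dt_nsmul e' (isCharacter_hom_mul f.hom hχc), dt_nsmul e hηc,
      dt_hom_mul f.hom hχc (n := charDegree (χ : G → ℂ)) (coe_charDegree' χ).symm,
      dt_restrict N hNG (isCharacter_of_isIrr χ.2), dt_restrict N hNG (isCharacter_of_isIrr η.2)] at hd
    apply Lin.ext
    intro n
    have h5 := DFunLike.congr_fun hd n
    rw [Lin.pow_hom, Lin.one_hom, pow_mul]
    simpa using h5

/-- An invariant linear character is killed by the degrees over it. -/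
theorem ov_lin_pow [Finite G] [hN : N.Normal] (hNG : N ≤ commutator G) {f : Lin N}
    (hf : ∀ g : G, g • f = f) {d : ℕ} (hd : Ov (lin f) d) : f ^ d = 1 := by
  have h1 : tw f (triv N) = lin f := by rw [← lin_one, tw_lin, mul_one]
  obtain ⟨e, he, hf1⟩ := ov_twist hNG hf ov_triv_one (h1 ▸ hd)
  have h2 : (St (triv N)).index = 1 := by
    rw [← lin_one, St_lin, Subgroup.index_eq_one, eq_top_iff]
    intro g _
    exact smul_one g
  rw [h2, one_mul, charDegree_triv, mul_one] at he
  rw [he, ← hf1, one_mul]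

end H82.Rel
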