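import Cfsg.Agent.Lib.H82.Deg
import Cfsg.Agent.Lib.H43.SLStruct
import Cfsg.Agent.Lib.H40.SL2Tori
import Cfsg.Agent.Lib.H25.SL2Card
import Cfsg.Prelude.Def_DegreeGraph

/-!
# The irreducible character degrees of `SL₂(q)`, `q` even
-/

set_option autoImplicit false
set_option linter.style.haveILetI false

namespace H82.SL2Even

open Cfsg H18.CharBasic H18.CharOrtho H18.CharQuot H82.Deg

universe u v

theorem charDegrees_congr {G : Type u} {H : Type v} [Group G] [Group H] (e : G ≃* H) :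
    charDegrees G = charDegrees H := by
  have key : ∀ {A : Type u} {B : Type v} [Group A] [Group B] (e : A ≃* B),
      charDegrees B ⊆ charDegrees A := by
    rintro A B _ _ e d ⟨χ, rfl⟩
    refine ⟨⟨fun g => (χ : B → ℂ) (e g), (isIrrCharacter_mulEquiv e).1 χ.2⟩, ?_⟩
    unfold charDegree
    show ⌊((χ : B → ℂ) (e 1)).re⌋₊ = _
    rw [map_one]
  apply Set.Subset.antisymm _ (key e)
  rintro d ⟨χ, rfl⟩
  refine ⟨⟨fun g => (χ : G → ℂ) (e.symm g), (isIrrCharacter_mulEquiv e.symm).1 χ.2⟩, ?_⟩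
  unfold charDegree
  show ⌊((χ : G → ℂ) (e.symm 1)).re⌋₊ = _
  rw [map_one]

variable {F : Type u} [Field F] [Fintype F]

local notation "SL2" => Matrix.SpecialLinearGroup (Fin 2)

theorem degree_cases [Fintype (SL2 F)] (hev : Even (Fintype.card F)) (h4 : 4 ≤ Fintype.card F)
    (χ : IrrCharacter (SL2 F)) :
    (χ : SL2 F → ℂ) = (fun _ => 1) ∨ (χ : SL2 F → ℂ) = H43.SLIrr.StS F ∨
    charDegree (χ : SL2 F → ℂ) = Fintype.card F + 1 ∨
    charDegree (χ : SL2 F → ℂ) = Fintype.card F - 1 := by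
  classical
  letI : Fintype (Matrix.GeneralLinearGroup (Fin 2) F) := Fintype.ofFinite _
  set q := Fintype.card F with hq
  have hd := coe_charDegree' χ
  set d := charDegree (χ : SL2 F → ℂ) with hdd
  rcases H43.SLStruct.cases' χ.2 with h | h | ⟨γ, hγ, h⟩ | ⟨c, h⟩ | ⟨γ, φ, -, -, -, -, h, x, hx⟩ |
    ⟨c, φ, -, -, h, x, hx⟩
  · exact Or.inl h
  · exact Or.inr (Or.inl h)
  · right; right; left
    have h1 := congrFun h 1
    rw [H43.SLStruct.indS_one', ← hd] at h1
    exact_mod_cast h1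
  · right; right; right
    have h1 := congrFun h 1
    rw [H43.SLStruct.cusp_one, ← hd] at h1
    have h2 : ((d + 1 : ℕ) : ℂ) = (q : ℕ) := by push_cast; rw [h1]; ring
    have h3 : d + 1 = q := by exact_mod_cast h2
    omega
  · exfalso
    have h1 := H43.SLStruct.half_degree h hx
    rw [H43.SLStruct.indS_one', ← hd] at h1
    have h2 : 2 * d = q + 1 := by exact_mod_cast h1
    obtain ⟨k, hk⟩ := hev
    omega
  · exfalso
    have h1 := H43.SLStruct.half_degree h hx
    rw [H43.SLStruct.cusp_one, ← hd] at h1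
    have h2 : ((2 * d + 1 : ℕ) : ℂ) = (q : ℕ) := by push_cast; rw [h1]; ring
    have h3 : 2 * d + 1 = q := by exact_mod_cast h2
    obtain ⟨k, hk⟩ := hev
    omega

theorem steinberg_degree [Fintype (SL2 F)] (h : IsIrrCharacter (SL2 F) (H43.SLIrr.StS F)) :
    charDegree (H43.SLIrr.StS F) = Fintype.card F := by
  classical
  letI : Fintype (Matrix.GeneralLinearGroup (Fin 2) F) := Fintype.ofFinite _
  exact charDegree_eq_of (by rw [H43.SLIrr.StS_one])

/-- If all nontrivial non-Steinberg degrees are divisible by `m` then `m ∣ q ^ 2 + 1 - |G|`. -/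
theorem exists_degree (hev : Even (Fintype.card F)) (h4 : 4 ≤ Fintype.card F) :
    (Fintype.card F + 1 ∈ charDegrees (SL2 F)) ∧ (Fintype.card F - 1 ∈ charDegrees (SL2 F)) ∧
    (Fintype.card F ∈ charDegrees (SL2 F)) ∧
    (∀ d ∈ charDegrees (SL2 F), d = 1 ∨ d = Fintype.card F ∨ d = Fintype.card F + 1 ∨
      d = Fintype.card F - 1) := by
  classical
  letI : Fintype (Matrix.GeneralLinearGroup (Fin 2) F) := Fintype.ofFinite _
  letI : Fintype (SL2 F) := Fintype.ofFinite _
  letI := Fintype.ofFinite (IrrCharacter (SL2 F))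
  have hirr : IsIrrCharacter (SL2 F) (H43.SLIrr.StS F) := H43.SLIrr.isIrr_StS
  set q := Fintype.card F with hq
  let t : IrrCharacter (SL2 F) := ⟨fun _ => 1, isIrrCharacter_one⟩
  let s : IrrCharacter (SL2 F) := ⟨H43.SLIrr.StS F, hirr⟩
  have htd : charDegree (t : SL2 F → ℂ) = 1 := charDegree_eq_of (by
    show (1 : ℂ) = _; simp)
  have hsd : charDegree (s : SL2 F → ℂ) = q := steinberg_degree hirr
  have hts : s ≠ t := by
    intro h
    rw [h, htd] at hsd
    omega
  have hsum := sum_degree_sq_nat (G := SL2 F)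
  rw [H40.SL2Tori.card_SL2, ← Finset.add_sum_erase _ _ (Finset.mem_univ t), htd,
    ← Finset.add_sum_erase _ _ (show s ∈ Finset.univ.erase t by
      rw [Finset.mem_erase]; exact ⟨hts, Finset.mem_univ _⟩), hsd, ← hq] at hsum
  have hrest : ∀ χ ∈ (Finset.univ.erase t).erase s, charDegree (χ : SL2 F → ℂ) = q + 1 ∨
      charDegree (χ : SL2 F → ℂ) = q - 1 := by
    intro χ hχ
    rw [Finset.mem_erase, Finset.mem_erase] at hχ
    rcases degree_cases hev h4 χ with h | h | h | h
    · exact absurd (Subtype.ext h) hχ.2.1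
    · exact absurd (Subtype.ext h) hχ.1
    · exact Or.inl h
    · exact Or.inr h
  refine ⟨?_, ?_, ⟨s, hsd⟩, ?_⟩
  · by_contra hcon
    have h1 : (q - 1) ∣ ∑ χ ∈ (Finset.univ.erase t).erase s, charDegree (χ : SL2 F → ℂ) ^ 2 := by
      apply Finset.dvd_sum
      intro χ hχ
      rcases hrest χ hχ with h | h
      · exact absurd ⟨χ, h⟩ hcon
      · rw [h]; exact dvd_pow_self _ two_ne_zero
    obtain ⟨k, hk⟩ := h1
    rw [hk] at hsum
    obtain ⟨m, hm⟩ : ∃ m, q = m + 1 := ⟨q - 1, by omega⟩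
    rw [hm] at hsum
    have h2 : m + 1 - 1 = m := by omega
    rw [h2] at hsum
    have h3 : m ∣ 2 := by
      have h5 : 1 ^ 2 + ((m + 1) ^ 2 + m * k) = 2 + m * (m + 2 + k) := by ring
      rw [h5] at hsum
      have h6 : m ∣ (m + 1) * m * (m + 1 + 1) := ⟨(m + 1) * (m + 1 + 1), by ring⟩
      rw [← hsum] at h6
      exact (Nat.dvd_add_left (Dvd.intro _ rfl)).1 h6
    have := Nat.le_of_dvd (by norm_num) h3
    omega
  · by_contra hcon
    have h1 : (q + 1) ∣ ∑ χ ∈ (Finset.univ.erase t).erase s, charDegree (χ : SL2 F → ℂ) ^ 2 := by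
      apply Finset.dvd_sum
      intro χ hχ
      rcases hrest χ hχ with h | h
      · rw [h]; exact dvd_pow_self _ two_ne_zero
      · exact absurd ⟨χ, h⟩ hcon
    obtain ⟨k, hk⟩ := h1
    rw [hk] at hsum
    obtain ⟨m, hm⟩ : ∃ m, q = m + 1 := ⟨q - 1, by omega⟩
    rw [hm] at hsum
    have h2 : m + 1 - 1 = m := by omega
    rw [h2] at hsum
    have h3 : m + 2 ∣ 2 := by
      have h5 : 1 ^ 2 + ((m + 1) ^ 2 + (m + 1 + 1) * k) = 2 + (m + 2) * (m + k) := by ring
      rw [h5] at hsum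
      have h6 : m + 2 ∣ (m + 1) * m * (m + 1 + 1) := ⟨(m + 1) * m, by ring⟩
      rw [← hsum] at h6
      exact (Nat.dvd_add_left (Dvd.intro _ rfl)).1 h6
    have := Nat.le_of_dvd (by norm_num) h3
    omega
  · rintro d ⟨χ, rfl⟩
    rcases degree_cases hev h4 χ with h | h | h | h
    · left; rw [h]; exact htd
    · right; left; rw [h]; exact hsd
    · right; right; left; exact h
    · right; right; right; exact h

end H82.SL2Even
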