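import Cfsg.Agent.Lib.H82.Rel5
import Cfsg.Agent.Lib.H83.Gallagher

/-!
# Restriction of a character of degree coprime to the index, abelian quotient
-/

set_option autoImplicit false
set_option linter.style.haveILetI false

namespace H82.AbRes

open Cfsg H18.CharBasic H18.CharOrtho H18.CharInd H18.CharQuot H31.Clifford
open H82.Deg H82.Simple H82.Quot H82.Cliff H82.Det H82.Rel
open scoped ComplexConjugate

universe u

variable {X : Type u} [Group X]

theorem quot_comm (K : Subgroup X) [K.Normal] (hK : commutator X ≤ K) (a b : X ⧸ K) :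
    a * b = b * a := by
  obtain ⟨x, rfl⟩ := QuotientGroup.mk_surjective a
  obtain ⟨y, rfl⟩ := QuotientGroup.mk_surjective b
  rw [← QuotientGroup.mk_mul, ← QuotientGroup.mk_mul, QuotientGroup.eq]
  apply hK
  have h1 : (x * y)⁻¹ * (y * x) = y⁻¹ * x⁻¹ * y⁻¹⁻¹ * x⁻¹⁻¹ := by group
  rw [h1]
  exact Subgroup.commutator_mem_commutator (Subgroup.mem_top _) (Subgroup.mem_top _)

theorem sum_over_linear [Finite X] [Fintype (IrrCharacter X)] (K : Subgroup X) [K.Normal]
    [DecidablePred (Over K)] [DecidablePred (· ∈ K)] (hK : commutator X ≤ K) (x : X) :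
    ∑ ψ ∈ Finset.univ.filter (Over K), (ψ : X → ℂ) x = if x ∈ K then (K.index : ℂ) else 0 := by
  classical
  letI := Fintype.ofFinite (IrrCharacter (X ⧸ K))
  rw [sum_over_quot K (fun ψ => (ψ : X → ℂ) x)]
  have h1 : ∀ χ : IrrCharacter (X ⧸ K), (χ : X ⧸ K → ℂ) 1 = 1 := fun χ =>
    degree_one_of_comm (quot_comm K hK) χ.2
  have h2 : ∀ χ : IrrCharacter (X ⧸ K), ((irrQuotEquiv K χ).1 : X → ℂ) x =
      (χ : X ⧸ K → ℂ) 1 * (χ : X ⧸ K → ℂ) (x : X ⧸ K) := by
    intro χ
    rw [h1 χ, one_mul]; rfl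
  rw [Finset.sum_congr rfl fun χ _ => h2 χ]
  split_ifs with hx
  · have h3 : (x : X ⧸ K) = 1 := (QuotientGroup.eq_one_iff x).2 hx
    rw [h3]
    have h4 := sum_degree_sq (G := X ⧸ K)
    have h5 : Nat.card (X ⧸ K) = K.index := rfl
    rw [h5] at h4
    rw [← h4]
    exact Finset.sum_congr rfl fun χ _ => by ring
  · exact sum_degree_mul (G := X ⧸ K) (fun h => hx ((QuotientGroup.eq_one_iff x).1 h))

/-- Lemma R: if `X/K` is abelian and `θ(1)` is coprime to `|X : K|` then `θ_K` is irreducible. -/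
theorem restrict_irr [Finite X] (K : Subgroup X) [hKn : K.Normal] (hK : commutator X ≤ K)
    {θ : X → ℂ} (hθ : IsIrrCharacter X θ) (hco : (charDegree θ).Coprime K.index) :
    IsIrrCharacter K (fun k : K => θ k) := by
  classical
  letI := Fintype.ofFinite X
  letI := Fintype.ofFinite K
  letI := Fintype.ofFinite (IrrCharacter X)
  apply isIrr_of_norm_one (isCharacter_restrict K (isCharacter_of_isIrr hθ))
  have hX0 : (Nat.card X : ℂ) ≠ 0 := by exact_mod_cast Nat.card_pos.ne'
  have hK0 : (Nat.card K : ℂ) ≠ 0 := by exact_mod_cast Nat.card_pos.ne'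
  -- the sum of the inner products of twists
  have h1 : ∑ ψ ∈ Finset.univ.filter (Over K), classInner (fun x => (ψ : X → ℂ) x * θ x) θ =
      classInner (fun k : K => θ k) (fun k : K => θ k) := by
    unfold classInner
    rw [← Finset.mul_sum, Finset.sum_comm]
    have h2 : ∀ x : X, ∑ ψ ∈ Finset.univ.filter (Over K), (ψ : X → ℂ) x * θ x * conj (θ x) =
        if x ∈ K then (K.index : ℂ) * (θ x * conj (θ x)) else 0 := by
      intro x
      have h3 : ∀ ψ : IrrCharacter X, (ψ : X → ℂ) x * θ x * conj (θ x) =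
          (ψ : X → ℂ) x * (θ x * conj (θ x)) := fun ψ => by ring
      simp_rw [h3]
      rw [← Finset.sum_mul, sum_over_linear K hK x]
      split_ifs with hx
      · rfl
      · rw [zero_mul]
    rw [Finset.sum_congr rfl fun x _ => h2 x, ← Finset.sum_filter, ← Finset.mul_sum]
    have h4 : ∑ x ∈ Finset.univ.filter (fun x : X => x ∈ K), θ x * conj (θ x) =
        ∑ k : K, θ k * conj (θ k) := by
      exact Finset.sum_subtype (p := fun x => x ∈ K) _ (fun x => by simp)
        (fun x => θ x * conj (θ x))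
    rw [h4, ← mul_assoc]
    congr 1
    have h5 : (Nat.card X : ℂ) = Nat.card K * K.index := by
      rw [← K.card_mul_index]; push_cast; rfl
    have h6 : (K.index : ℂ) ≠ 0 := by exact_mod_cast Subgroup.index_ne_zero_of_finite
    rw [h5]
    field_simp
  rw [← h1]
  -- only the trivial twist contributes
  rw [Finset.sum_eq_single (triv X)]
  · have h2 : (fun x => (triv X : X → ℂ) x * θ x) = θ := by
      funext x; rw [triv_apply, one_mul]
    rw [h2, inner_irr_self hθ]
  · intro ψ hψ hne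
    rw [Finset.mem_filter] at hψ
    -- `ψ` is linear
    have hψ1 : charDegree (ψ : X → ℂ) = 1 := by
      rw [← charDegree_deflate K ψ hψ.2]
      apply charDegree_eq_of
      rw [Nat.cast_one]
      exact degree_one_of_comm (quot_comm K hK) (isIrrCharacter_deflate K ψ.2 hψ.2)
    have hψl := eq_lin_of_degree hψ1
    set f := det ψ with hf
    have hirr : IsIrrCharacter X (fun x => (ψ : X → ℂ) x * θ x) := by
      rw [hψl]; exact isIrrCharacter_hom_mul f.hom hθ
    apply inner_irr_ne hirr hθ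
    intro heq
    apply hne
    -- determinants
    have h3 : tw f ⟨θ, hθ⟩ = ⟨θ, hθ⟩ := by
      apply Subtype.ext
      funext x
      rw [tw_apply]
      show (f.hom x : ℂ) * θ x = θ x
      have h8 : (ψ : X → ℂ) x * θ x = θ x := congrFun heq x
      rw [hψl, lin_apply] at h8
      exact h8
    have h4 := congrArg det h3
    rw [det_tw, mul_eq_right] at h4
    have h5 : f ^ K.index = 1 := by
      apply Lin.ext
      intro x
      rw [Lin.pow_hom, Lin.one_hom]
      have h6 : x ^ K.index ∈ K := Subgroup.pow_index_mem K x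
      have h7 : (ψ : X → ℂ) (x ^ K.index) = (ψ : X → ℂ) 1 := hψ.2 _ h6
      rw [hψl, lin_apply, lin_apply, map_pow, map_one] at h7
      exact Units.ext h7
    have h6 : f = 1 := by
      rw [← orderOf_eq_one_iff]
      exact Nat.eq_one_of_dvd_coprimes hco (orderOf_dvd_of_pow_eq_one h4)
        (orderOf_dvd_of_pow_eq_one h5)
    rw [hψl, h6, lin_one]
  · intro h2
    exfalso
    apply h2
    rw [Finset.mem_filter]
    exact ⟨Finset.mem_univ _, fun n _ => rfl⟩

/-- A subgroup below `K` with `K / L` abelian of prime power order. -/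
theorem exists_L [Finite X] (K : Subgroup X) [hK : K.Normal] (hlt : ⁅K, K⁆ < K) :
    ∃ (r : ℕ) (L : Subgroup X), r.Prime ∧ L.Normal ∧ ⁅K, K⁆ ≤ L ∧ L < K ∧
      ∃ n : ℕ, L.relIndex K = r ^ n := by
  set D := ⁅K, K⁆ with hD
  have hDn : D.Normal := by rw [hD]; infer_instance
  have hne : D.relIndex K ≠ 1 := by
    intro h1
    rw [Subgroup.relIndex_eq_one] at h1
    exact absurd hlt (not_lt_of_ge h1)
  obtain ⟨r, hr, hrd⟩ := Nat.exists_prime_and_dvd hne
  haveI := Fact.mk hr
  have hi0 : D.relIndex K ≠ 0 := Subgroup.index_ne_zero_of_finite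
  set k := (D.relIndex K).factorization r with hk
  set m := D.relIndex K / r ^ k with hm
  have hkm : r ^ k * m = D.relIndex K := Nat.ordProj_mul_ordCompl_eq_self _ _
  have hrm : ¬ r ∣ m := Nat.not_dvd_ordCompl hr hi0
  have hpow : ∀ x ∈ K, x ^ (D.relIndex K) ∈ D := by
    intro x hx
    have h1 := Subgroup.pow_index_mem (D.subgroupOf K) (⟨x, hx⟩ : K)
    exact Subgroup.mem_subgroupOf.1 h1
  have hcomm : ∀ x ∈ K, ∀ y ∈ K, Commute (x : X ⧸ D) (y : X ⧸ D) := by
    intro x hx y hy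
    show (x : X ⧸ D) * (y : X ⧸ D) = (y : X ⧸ D) * (x : X ⧸ D)
    rw [← QuotientGroup.mk_mul, ← QuotientGroup.mk_mul, QuotientGroup.eq]
    have h1 : (x * y)⁻¹ * (y * x) = y⁻¹ * x⁻¹ * y⁻¹⁻¹ * x⁻¹⁻¹ := by group
    rw [h1]
    exact Subgroup.commutator_mem_commutator (K.inv_mem hy) (K.inv_mem hx)
  have hmem : ∀ (x : X) (n : ℕ), x ^ n ∈ D ↔ (x : X ⧸ D) ^ n = 1 := by
    intro x n
    rw [← QuotientGroup.mk_pow, QuotientGroup.eq_one_iff]
  let L : Subgroup X :=
    { carrier := {x | x ∈ K ∧ x ^ m ∈ D}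
      one_mem' := ⟨K.one_mem, by rw [one_pow]; exact D.one_mem⟩
      mul_mem' := by
        rintro x y ⟨hx, hx'⟩ ⟨hy, hy'⟩
        refine ⟨K.mul_mem hx hy, ?_⟩
        rw [hmem] at hx' hy' ⊢
        rw [QuotientGroup.mk_mul, (hcomm x hx y hy).mul_pow, hx', hy', one_mul]
      inv_mem' := by
        rintro x ⟨hx, hx'⟩
        exact ⟨K.inv_mem hx, by rw [inv_pow]; exact D.inv_mem hx'⟩ }
  have hL : ∀ x, x ∈ L ↔ x ∈ K ∧ x ^ m ∈ D := fun x => Iff.rfl
  have hLK : L ≤ K := fun x hx => ((hL x).1 hx).1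
  haveI hLn : L.Normal := by
    refine ⟨fun x hx g => ?_⟩
    rw [hL] at hx ⊢
    exact ⟨hK.conj_mem x hx.1 g, by rw [conj_pow]; exact hDn.conj_mem _ hx.2 g⟩
  refine ⟨r, L, hr, hLn, fun x hx => ?_, lt_of_le_of_ne hLK ?_, ?_⟩
  · exact (hL x).2 ⟨hlt.le hx, D.pow_mem hx m⟩
  · intro heq
    -- an element of order `r` modulo `D`
    have h1 : r ∣ Nat.card (K ⧸ D.subgroupOf K) := hrd
    obtain ⟨q, hq⟩ := exists_prime_orderOf_dvd_card' r h1
    obtain ⟨⟨x, hx⟩, rfl⟩ := QuotientGroup.mk_surjective q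
    have h2 : x ∈ L := by rw [heq]; exact hx
    have h3 := ((hL x).1 h2).2
    have h4 : ((⟨x, hx⟩ : K) : K ⧸ D.subgroupOf K) ^ m = 1 := by
      rw [← QuotientGroup.mk_pow, QuotientGroup.eq_one_iff]
      exact Subgroup.mem_subgroupOf.2 h3
    have h5 := orderOf_dvd_of_pow_eq_one h4
    rw [hq] at h5
    exact hrm h5
  · have h1 : IsPGroup r (K ⧸ L.subgroupOf K) := by
      intro q
      obtain ⟨⟨x, hx⟩, rfl⟩ := QuotientGroup.mk_surjective q
      refine ⟨k, ?_⟩
      rw [← QuotientGroup.mk_pow, QuotientGroup.eq_one_iff, Subgroup.mem_subgroupOf]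
      show x ^ r ^ k ∈ L
      rw [hL]
      refine ⟨K.pow_mem hx _, ?_⟩
      rw [← pow_mul, hkm]
      exact hpow x hx
    obtain ⟨n, hn⟩ := IsPGroup.iff_card.1 h1
    exact ⟨n, hn⟩

end H82.AbRes
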