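import Cfsg.Agent.Lib.H82.Quot

/-!
# Values of irreducible characters on cosets of a normal subgroup
-/

set_option autoImplicit false
set_option linter.style.haveILetI false

namespace H82.Coset

open Cfsg H18.CharBasic H18.CharOrtho H18.CharInd H18.CharQuot H82.Deg H82.Simple H82.Quot
open scoped ComplexConjugate

universe u

variable {G : Type u} [Group G]

/-- The indicator function of a normal subgroup. -/
theorem isClassFunction_indicator (N : Subgroup G) [N.Normal] [DecidablePred (· ∈ N)] :
    IsClassFunction G (fun g => if g ∈ N then (1 : ℂ) else 0) := by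
  intro g h
  have : h * g * h⁻¹ ∈ N ↔ g ∈ N := by
    constructor
    · intro h1
      have := (inferInstance : N.Normal).conj_mem _ h1 h⁻¹
      have h2 : h⁻¹ * (h * g * h⁻¹) * h⁻¹⁻¹ = g := by group
      rwa [h2] at this
    · intro h1; exact (inferInstance : N.Normal).conj_mem _ h1 h
  simp only [this]

/-- The sum of an irreducible character over a coset `gN` is `c * χ g` for a constant `c`. -/
theorem exists_const [Finite G] (N : Subgroup G) [N.Normal] [Fintype N] (χ : IrrCharacter G) :
    ∃ c : ℂ, ∀ g : G, ∑ n : N, (χ : G → ℂ) ((n : G) * g) = c * (χ : G → ℂ) g := by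
  classical
  letI := Fintype.ofFinite G
  let z := H20.GA.zof (G := G) (fun g => if g ∈ N then (1 : ℂ) else 0) (isClassFunction_indicator N)
  refine ⟨H20.GA.omega χ z, fun g => ?_⟩
  have h1 := H20.GA.evA_central_mul' χ z (MonoidAlgebra.single g 1)
  rw [H20.GA.evA_single, one_mul] at h1
  rw [← h1, H20.GA.evA_eq_sum]
  have h2 : ∀ x : G, (H20.GA.toA z * MonoidAlgebra.single g 1).coeff x =
      if x * g⁻¹ ∈ N then 1 else 0 := by
    intro x
    rw [MonoidAlgebra.coeff_mul_single_apply]
    simp only [mul_one]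
    rfl
  simp_rw [h2]
  rw [← Equiv.sum_comp (Equiv.mulRight g)]
  simp only [Equiv.coe_mulRight, mul_inv_cancel_right]
  simp only [ite_mul, one_mul, zero_mul]
  rw [← Finset.sum_filter]
  symm
  refine Finset.sum_bij' (fun x hx => (⟨x, (Finset.mem_filter.1 hx).2⟩ : N)) (fun n _ => (n : G))
    ?_ ?_ ?_ ?_ ?_
  · intro a _; exact Finset.mem_univ _
  · intro a _; rw [Finset.mem_filter]; exact ⟨Finset.mem_univ _, a.2⟩
  · intro a _; rfl
  · intro a _; rfl
  · intro a _; rfl

theorem sum_coset_left [Finite G] (N : Subgroup G) [N.Normal] [Fintype N] (χ : IrrCharacter G)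
    (h : ¬ Over N χ) (g : G) : ∑ n : N, (χ : G → ℂ) ((n : G) * g) = 0 := by
  obtain ⟨c, hc⟩ := exists_const N χ
  have hc0 : c = 0 := by
    by_contra hne
    apply h
    intro m hm
    have h1 := hc 1
    have h2 := hc m
    have h3 : ∑ n : N, (χ : G → ℂ) ((n : G) * m) = ∑ n : N, (χ : G → ℂ) ((n : G) * 1) := by
      rw [← Equiv.sum_comp (Equiv.mulRight (⟨m, hm⟩ : N))]
      symm
      rw [← Equiv.sum_comp (Equiv.mulRight (⟨m, hm⟩ : N)), ← Equiv.sum_comp (Equiv.mulRight (⟨m, hm⟩ : N))]
      simp [mul_assoc]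
    rw [h1, h2] at h3
    exact mul_left_cancel₀ hne h3
  rw [hc g, hc0, zero_mul]

theorem sum_coset_right [Finite G] (N : Subgroup G) [N.Normal] [Fintype N] (χ : IrrCharacter G)
    (h : ¬ Over N χ) (g : G) : ∑ n : N, (χ : G → ℂ) (g * (n : G)) = 0 := by
  rw [← sum_coset_left N χ h g]
  refine Finset.sum_congr rfl fun n _ => ?_
  exact classFunction_mul_comm (isClassFunction_of_isIrr χ.2) _ _

/-- If all elements of the coset `gN` are conjugate, then `χ g = 0` whenever `N` is not in the
kernel of `χ`. -/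
theorem eq_zero_of_coset [Finite G] (N : Subgroup G) [N.Normal] (g : G)
    (hg : ∀ n ∈ N, IsConj g (g * n)) (χ : IrrCharacter G) (h : ¬ Over N χ) : (χ : G → ℂ) g = 0 := by
  classical
  letI := Fintype.ofFinite N
  have h1 := sum_coset_right N χ h g
  have h2 : ∀ n : N, (χ : G → ℂ) (g * (n : G)) = (χ : G → ℂ) g := fun n =>
    (classFunction_isConj (isClassFunction_of_isIrr χ.2) (hg n n.2)).symm
  rw [Finset.sum_congr rfl fun n _ => h2 n, Finset.sum_const, nsmul_eq_mul] at h1
  rcases mul_eq_zero.1 h1 with h3 | h3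
  · have : (Finset.univ : Finset N).card ≠ 0 := by
      rw [Finset.card_univ]; exact Fintype.card_ne_zero
    exact absurd h3 (by exact_mod_cast this)
  · exact h3

/-- If `χ g = 0` whenever `N` is not in the kernel of `χ`, then every element `h` with
`χ h = χ g` for all `χ` with `N` in the kernel is conjugate to `g`. -/
theorem isConj_of_zero [Finite G] (N : Subgroup G) [N.Normal] (g h : G)
    (hg : ∀ χ : IrrCharacter G, ¬ Over N χ → (χ : G → ℂ) g = 0)
    (hh : ∀ χ : IrrCharacter G, Over N χ → (χ : G → ℂ) h = (χ : G → ℂ) g) : IsConj g h := by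
  classical
  letI := Fintype.ofFinite (IrrCharacter G)
  by_contra hne
  have h1 := column_orthogonality g h
  rw [if_neg hne] at h1
  have h2 := column_orthogonality g g
  rw [if_pos (IsConj.refl g)] at h2
  have h3 : ∑ χ : IrrCharacter G, (χ : G → ℂ) g * conj ((χ : G → ℂ) h) =
      ∑ χ : IrrCharacter G, (χ : G → ℂ) g * conj ((χ : G → ℂ) g) := by
    refine Finset.sum_congr rfl fun χ _ => ?_
    by_cases ho : Over N χ
    · rw [hh χ ho]
    · rw [hg χ ho, zero_mul, zero_mul]
  rw [h1, h2] at h3
  exact card_centralizer_ne_zero g h3.symm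

/-- The centralizer order criterion. -/
theorem card_centralizer_eq_iff [Finite G] (N : Subgroup G) [N.Normal] (g : G) :
    Nat.card (Subgroup.centralizer ({g} : Set G)) =
      Nat.card (Subgroup.centralizer ({(g : G ⧸ N)} : Set (G ⧸ N))) ↔
    ∀ χ : IrrCharacter G, ¬ Over N χ → (χ : G → ℂ) g = 0 := by
  classical
  letI := Fintype.ofFinite (IrrCharacter G)
  have h1 := column_orthogonality g g
  rw [if_pos (IsConj.refl g)] at h1
  have h2 := sum_column_over N g
  rw [← Finset.sum_filter_add_sum_filter_not Finset.univ (Over N), h2] at h1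
  have h3 : ∀ χ : IrrCharacter G, (χ : G → ℂ) g * conj ((χ : G → ℂ) g) =
      ((Complex.normSq ((χ : G → ℂ) g) : ℝ) : ℂ) := fun χ => Complex.mul_conj _
  constructor
  · intro h χ hχ
    rw [h] at h1
    have h4 : ∑ χ ∈ Finset.univ.filter (fun χ : IrrCharacter G => ¬ Over N χ),
        (χ : G → ℂ) g * conj ((χ : G → ℂ) g) = 0 := by
      have := h1
      linear_combination this
    simp_rw [h3] at h4
    rw [← Complex.ofReal_sum] at h4
    have h5 : ∑ χ ∈ Finset.univ.filter (fun χ : IrrCharacter G => ¬ Over N χ),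
        Complex.normSq ((χ : G → ℂ) g) = 0 := by exact_mod_cast h4
    rw [Finset.sum_eq_zero_iff_of_nonneg (fun _ _ => Complex.normSq_nonneg _)] at h5
    have h6 := h5 χ (by simp [hχ])
    exact Complex.normSq_eq_zero.1 h6
  · intro h
    have h4 : ∑ χ ∈ Finset.univ.filter (fun χ : IrrCharacter G => ¬ Over N χ),
        (χ : G → ℂ) g * conj ((χ : G → ℂ) g) = 0 := by
      refine Finset.sum_eq_zero fun χ hχ => ?_
      simp only [Finset.mem_filter, Finset.mem_univ, true_and] at hχ
      rw [h χ hχ, zero_mul]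
    rw [h4, add_zero] at h1
    exact_mod_cast h1.symm

end H82.Coset
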