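import Cfsg.Agent.Lib.H82.Coset
import Cfsg.Prelude.Def_Transfer

/-!
# Characters vanishing on all but two conjugacy classes (Gagola)
-/

set_option autoImplicit false
set_option linter.style.haveILetI false

namespace H82.Gagola

open Cfsg H18.CharBasic H18.CharOrtho H18.CharInd H18.CharQuot H82.Deg H82.Simple H82.Quot
open scoped ComplexConjugate

universe u

variable {G : Type u} [Group G]

/-- The configuration of a character nonzero on exactly two classes. -/
structure Gag [Finite G] (χ : IrrCharacter G) (N : Subgroup G) (f : ℕ) : Prop where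
  normal : N.Normal
  ne_bot : N ≠ ⊥
  f_pos : 0 < f
  deg : charDegree (χ : G → ℂ) = f * (Nat.card N - 1)
  val : ∀ x ∈ N, x ≠ 1 → (χ : G → ℂ) x = -(f : ℂ)
  zero : ∀ x, x ∉ N → (χ : G → ℂ) x = 0
  isConj : ∀ x ∈ N, x ≠ 1 → ∀ y ∈ N, y ≠ 1 → IsConj x y
  other : ∀ ψ : IrrCharacter G, ψ ≠ χ → Over N ψ
  card : Nat.card G = f ^ 2 * Nat.card N * (Nat.card N - 1)

/-- The two classes. -/
theorem exists_pair (χ : IrrCharacter G)
    (hχ : Nat.card {C : ConjClasses G // ∃ g ∈ C.carrier, (χ : G → ℂ) g ≠ 0} = 2) :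
    ∃ x : G, x ≠ 1 ∧ (∀ g, (χ : G → ℂ) g ≠ 0 ↔ g = 1 ∨ IsConj x g) := by
  have hcl := isClassFunction_of_isIrr χ.2
  have h1 : (χ : G → ℂ) 1 ≠ 0 := irr_one_ne_zero χ.2
  let c1 : {C : ConjClasses G // ∃ g ∈ C.carrier, (χ : G → ℂ) g ≠ 0} :=
    ⟨ConjClasses.mk 1, 1, ConjClasses.mem_carrier_iff_mk_eq.2 rfl, h1⟩
  obtain ⟨⟨D, x, hxD, hx⟩, hne, huniq⟩ := (Nat.card_eq_two_iff' c1).1 hχ
  have hDx : ConjClasses.mk x = D := ConjClasses.mem_carrier_iff_mk_eq.1 hxD
  have hx1 : x ≠ 1 := by
    rintro rfl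
    exact hne (Subtype.ext hDx.symm)
  refine ⟨x, hx1, fun g => ⟨fun hg => ?_, ?_⟩⟩
  · by_cases hg1 : g = 1
    · exact Or.inl hg1
    · right
      have h2 := huniq ⟨ConjClasses.mk g, g, ConjClasses.mem_carrier_iff_mk_eq.2 rfl, hg⟩ (by
        intro h
        have h3 : ConjClasses.mk g = ConjClasses.mk 1 := congrArg Subtype.val h
        rw [ConjClasses.mk_eq_mk_iff_isConj, isConj_comm, isConj_one_right.eq] at h3
        exact hg1 h3)
      have h3 : ConjClasses.mk g = D := congrArg Subtype.val h2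
      rw [← hDx, ConjClasses.mk_eq_mk_iff_isConj] at h3
      exact h3.symm
  · rintro (rfl | h)
    · exact h1
    · rw [← classFunction_isConj hcl h]; exact hx

theorem sum_two [Fintype G] {x : G} (hx1 : x ≠ 1) (F : G → ℂ) (hF : IsClassFunction G F)
    (h0 : ∀ g, F g ≠ 0 → g = 1 ∨ IsConj x g) :
    ∑ g : G, F g = F 1 + (Nat.card {g : G // IsConj x g} : ℂ) * F x := by
  classical
  have h1 : ¬ IsConj x (1 : G) := fun h => hx1 (by rwa [isConj_comm, isConj_one_right.eq] at h)
  rw [← Finset.add_sum_erase _ _ (Finset.mem_univ (1 : G))]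
  congr 1
  have h2 : ∑ g ∈ Finset.univ.erase (1 : G), F g = ∑ g ∈ Finset.univ.filter (fun g : G => IsConj x g), F g := by
    symm
    apply Finset.sum_subset
    · intro g hg
      rw [Finset.mem_filter] at hg
      rw [Finset.mem_erase]
      refine ⟨?_, Finset.mem_univ _⟩
      rintro rfl
      exact h1 hg.2
    · intro g hg hg'
      rw [Finset.mem_erase] at hg
      by_contra hne
      rcases h0 g hne with h | h
      · exact hg.1 h
      · exact hg' (Finset.mem_filter.2 ⟨Finset.mem_univ _, h⟩)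
  rw [h2, Finset.sum_congr rfl (g := fun _ => F x), Finset.sum_const, nsmul_eq_mul,
    Nat.card_eq_fintype_card, Fintype.card_subtype]
  intro g hg
  rw [Finset.mem_filter] at hg
  exact (classFunction_isConj hF hg.2).symm


theorem exists_gag [Finite G] (hG : 2 < Nat.card G) (χ : IrrCharacter G)
    (hχ : Nat.card {C : ConjClasses G // ∃ g ∈ C.carrier, (χ : G → ℂ) g ≠ 0} = 2) :
    ∃ (N : Subgroup G) (f : ℕ), Gag χ N f := by
  classical
  letI := Fintype.ofFinite G
  letI := Fintype.ofFinite (IrrCharacter G)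
  obtain ⟨x, hx1, hx⟩ := exists_pair χ hχ
  have hcl := isClassFunction_of_isIrr χ.2
  have hx0 : (χ : G → ℂ) x ≠ 0 := (hx x).2 (Or.inr (IsConj.refl x))
  set c := Nat.card {g : G // IsConj x g} with hc
  have hcdvd : c ∣ Nat.card G := by
    rw [hc, card_isConj_eq_index]
    exact Subgroup.index_dvd_card _
  have hcpos : 0 < c := Nat.pos_of_dvd_of_pos hcdvd Nat.card_pos
  -- χ is not principal
  have hne : χ ≠ triv G := by
    rintro rfl
    have h1 : Nat.card G = c + 1 := by
      have h2 := sum_two hx1 (fun _ : G => (1 : ℂ)) (isClassFunction_const 1)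
        (fun g _ => (hx g).1 (by rw [triv_apply]; exact one_ne_zero))
      simp only [Finset.sum_const, nsmul_eq_mul, mul_one, Finset.card_univ] at h2
      rw [Nat.card_eq_fintype_card]
      have h3 : ((Fintype.card G : ℕ) : ℂ) = ((c + 1 : ℕ) : ℂ) := by
        rw [h2]; push_cast; ring
      exact_mod_cast h3
    rw [h1] at hcdvd
    have h4 : c ∣ 1 := (Nat.dvd_add_right (dvd_refl c)).1 hcdvd
    have h5 : c = 1 := Nat.dvd_one.1 h4
    omega
  -- orthogonality
  have key : ∀ ψ : IrrCharacter G, ψ ≠ χ →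
      (ψ : G → ℂ) 1 * conj ((χ : G → ℂ) 1) + (c : ℂ) * ((ψ : G → ℂ) x * conj ((χ : G → ℂ) x)) = 0 := by
    intro ψ hψ
    have h1 := inner_irr_ne ψ.2 χ.2 (fun h => hψ (Subtype.ext h))
    unfold classInner at h1
    have h0 : (Nat.card G : ℂ) ≠ 0 := by exact_mod_cast Nat.card_pos.ne'
    have h2 := (mul_eq_zero.1 h1).resolve_left (inv_ne_zero h0)
    rw [sum_two hx1 (fun g => (ψ : G → ℂ) g * conj ((χ : G → ℂ) g))
      (isClassFunction_mul (isClassFunction_of_isIrr ψ.2) (isClassFunction_conj hcl))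
      (fun g hg => (hx g).1 (by
        intro h3
        apply hg
        simp [h3]))] at h2
    exact h2
  have hk := key (triv G) (Ne.symm hne)
  simp only [triv_apply, one_mul] at hk
  have hdeg1 : (χ : G → ℂ) 1 = (charDegree (χ : G → ℂ) : ℂ) := (coe_charDegree' χ).symm
  have hcC : (c : ℂ) ≠ 0 := by exact_mod_cast hcpos.ne'
  have hd0 : (charDegree (χ : G → ℂ) : ℂ) ≠ 0 := by exact_mod_cast charDegree_ne_zero χ
  have hxval : (χ : G → ℂ) x = -((charDegree (χ : G → ℂ) : ℂ) / (c : ℂ)) := by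
    have h1 : (c : ℂ) * conj ((χ : G → ℂ) x) = - (charDegree (χ : G → ℂ) : ℂ) := by
      rw [hdeg1, Complex.conj_natCast] at hk
      linear_combination hk
    have h2 : conj ((χ : G → ℂ) x) = -((charDegree (χ : G → ℂ) : ℂ) / (c : ℂ)) := by
      field_simp
      rw [mul_comm] at h1
      rw [h1]
    have h3 := congrArg conj h2
    rw [Complex.conj_conj] at h3
    rw [h3, map_neg, map_div₀, Complex.conj_natCast, Complex.conj_natCast]
  have hother : ∀ ψ : IrrCharacter G, ψ ≠ χ → (ψ : G → ℂ) x = (ψ : G → ℂ) 1 := by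
    intro ψ hψ
    have h1 := key ψ hψ
    rw [hxval, hdeg1, map_neg, map_div₀, Complex.conj_natCast, Complex.conj_natCast] at h1
    have h2 : (charDegree (χ : G → ℂ) : ℂ) * ((ψ : G → ℂ) 1 - (ψ : G → ℂ) x) = 0 := by
      have h3 : (c : ℂ) * ((ψ : G → ℂ) x * -((charDegree (χ : G → ℂ) : ℂ) / (c : ℂ))) =
          - ((ψ : G → ℂ) x * (charDegree (χ : G → ℂ) : ℂ)) := by field_simp
      rw [h3] at h1
      linear_combination h1
    rcases mul_eq_zero.1 h2 with h3 | h3
    · exact absurd h3 hd0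
    · exact (sub_eq_zero.1 h3).symm
  have hcd : c ∣ charDegree (χ : G → ℂ) := by
    refine dvd_of_isIntegral_div hcpos.ne' ?_
    have h1 := char_isIntegral (isCharacter_of_isIrr χ.2) x
    rw [hxval] at h1
    have h2 := h1.neg
    rwa [neg_neg] at h2
  obtain ⟨f, hf⟩ := hcd
  have hfpos : 0 < f := by
    rcases Nat.eq_zero_or_pos f with h | h
    · rw [h, mul_zero] at hf; exact absurd hf (charDegree_ne_zero χ)
    · exact h
  have hxval' : (χ : G → ℂ) x = -(f : ℂ) := by
    rw [hxval, hf]; push_cast; field_simp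
  -- the normal subgroup
  let N : Subgroup G := ⨅ ψ : {ψ : IrrCharacter G // ψ ≠ χ}, ker ψ.1
  have hmemN : ∀ g, g ∈ N ↔ ∀ ψ : IrrCharacter G, ψ ≠ χ → (ψ : G → ℂ) g = (ψ : G → ℂ) 1 := by
    intro g
    constructor
    · intro h ψ hψ; exact mem_ker.1 (Subgroup.mem_iInf.1 h ⟨ψ, hψ⟩)
    · intro h; exact Subgroup.mem_iInf.2 fun ψ => mem_ker.2 (h ψ.1 ψ.2)
  have hNn : N.Normal := Subgroup.normal_iInf_normal fun ψ => inferInstance
  have hxN : x ∈ N := (hmemN x).2 hother
  have hN1 : ∀ g, g ∈ N ↔ g = 1 ∨ IsConj x g := by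
    intro g
    constructor
    · intro hg
      by_contra hcon
      have hcon' := hcon
      push Not at hcon
      have hg0 : (χ : G → ℂ) g = 0 := by
        by_contra h
        exact hcon' ((hx g).1 h)
      have h1 := sum_degree_mul (G := G) hcon.1
      have h2 := sum_degree_sq (G := G)
      have h3 : ∑ ψ : IrrCharacter G, ((ψ : G → ℂ) 1 * (ψ : G → ℂ) 1 - (ψ : G → ℂ) 1 * (ψ : G → ℂ) g) =
          (χ : G → ℂ) 1 * (χ : G → ℂ) 1 := by
        rw [← Finset.add_sum_erase _ _ (Finset.mem_univ χ), hg0]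
        rw [Finset.sum_eq_zero, add_zero, mul_zero, sub_zero]
        intro ψ hψ
        rw [(hmemN g).1 hg ψ (Finset.ne_of_mem_erase hψ), sub_self]
      rw [Finset.sum_sub_distrib] at h3
      have h4 : ∑ ψ : IrrCharacter G, (ψ : G → ℂ) 1 * (ψ : G → ℂ) 1 = Nat.card G := by
        rw [← h2]; exact Finset.sum_congr rfl fun ψ _ => by ring
      rw [h4, h1, sub_zero, hdeg1] at h3
      have h5 : Nat.card G = charDegree (χ : G → ℂ) * charDegree (χ : G → ℂ) := by exact_mod_cast h3
      have h6 := ne_one_degree_sq_lt χ (fun h => hne (eq_triv_iff.2 h))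
      rw [h5] at h6
      nlinarith
    · rintro (rfl | h)
      · exact N.one_mem
      · obtain ⟨k, hk⟩ := isConj_iff.1 h
        rw [← hk]
        exact hNn.conj_mem x hxN k
  have hcardN : Nat.card N = c + 1 := by
    have h2 := sum_two hx1 (fun g : G => if g ∈ N then (1 : ℂ) else 0)
      (H82.Coset.isClassFunction_indicator N)
      (fun g hg => (hN1 g).1 (by
        by_contra h
        exact hg (if_neg h)))
    simp only [if_pos hxN, if_pos N.one_mem, mul_one] at h2
    rw [← Finset.sum_filter, Finset.sum_const, nsmul_eq_mul, mul_one] at h2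
    have h3 : Nat.card N = (Finset.univ.filter (fun g : G => g ∈ N)).card := by
      rw [Nat.card_eq_fintype_card, Fintype.card_subtype]
    rw [h3]
    have h4 : (((Finset.univ.filter (fun g : G => g ∈ N)).card : ℕ) : ℂ) = ((c + 1 : ℕ) : ℂ) := by
      rw [h2]; push_cast; ring
    exact_mod_cast h4
  refine ⟨N, f, hNn, ?_, hfpos, ?_, ?_, ?_, ?_, ?_, ?_⟩
  · intro h
    rw [h] at hxN
    exact hx1 (Subgroup.mem_bot.1 hxN)
  · rw [hf, hcardN]; simp [mul_comm]
  · intro y hy hy1
    rw [← hxval']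
    rcases (hN1 y).1 hy with h | h
    · exact absurd h hy1
    · exact (classFunction_isConj hcl h).symm
  · intro y hy
    by_contra h
    exact hy ((hN1 y).2 ((hx y).1 h))
  · intro y hy hy1 z hz hz1
    have h1 := ((hN1 y).1 hy).resolve_left hy1
    have h2 := ((hN1 z).1 hz).resolve_left hz1
    exact h1.symm.trans h2
  · intro ψ hψ n hn
    exact (hmemN n).1 hn ψ hψ
  · have h1 := inner_irr_self χ.2
    unfold classInner at h1
    have h0 : (Nat.card G : ℂ) ≠ 0 := by exact_mod_cast Nat.card_pos.ne'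
    rw [sum_two hx1 (fun g => (χ : G → ℂ) g * conj ((χ : G → ℂ) g))
      (isClassFunction_mul hcl (isClassFunction_conj hcl))
      (fun g hg => (hx g).1 (by
        intro h3
        apply hg
        simp [h3])), hxval', hdeg1, hf] at h1
    rw [hcardN]
    have h2 : (Nat.card G : ℂ) = ((f ^ 2 * (c + 1) * (c + 1 - 1) : ℕ) : ℂ) := by
      rw [Nat.add_sub_cancel]
      push_cast
      rw [map_neg, Complex.conj_natCast, Complex.conj_natCast] at h1
      field_simp at h1
      push_cast at h1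
      rw [← h1]
      ring
    exact_mod_cast h2

end H82.Gagola
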