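import Cfsg.Agent.Lib.H82.Gagola
import Cfsg.Agent.Lib.H31.Clifford

/-!
# Characters vanishing on all but two conjugacy classes: consequences
-/

set_option autoImplicit false
set_option linter.style.haveILetI false

namespace H82.Gagola

open Cfsg H18.CharBasic H18.CharOrtho H18.CharInd H18.CharQuot H82.Deg H82.Simple H82.Quot
open scoped ComplexConjugate

universe u

variable {G : Type u} [Group G] [Finite G]

/-- The elements in the kernels of all irreducible characters over `K` are in `K`. -/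
theorem mem_of_over (K : Subgroup G) [K.Normal] {g : G}
    (h : ∀ ψ : IrrCharacter G, Over K ψ → (ψ : G → ℂ) g = (ψ : G → ℂ) 1) : g ∈ K := by
  rw [← QuotientGroup.eq_one_iff]
  refine eq_one_of_forall_irr fun χ hχ => ?_
  have h1 := h (irrQuotEquiv K ⟨χ, hχ⟩).1 (irrQuotEquiv K ⟨χ, hχ⟩).2
  exact h1

section

variable {χ : IrrCharacter G} {N : Subgroup G} {f : ℕ} (h : Gag χ N f)

include h

theorem faithful {g : G} (hg : (χ : G → ℂ) g = (χ : G → ℂ) 1) : g = 1 := by
  by_contra hne
  by_cases hN : g ∈ N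
  · rw [h.val g hN hne, ← coe_charDegree' χ] at hg
    have h1 : ((charDegree (χ : G → ℂ) + f : ℕ) : ℂ) = 0 := by
      push_cast; rw [← hg]; ring
    have h2 : charDegree (χ : G → ℂ) + f = 0 := by exact_mod_cast h1
    have := h.f_pos
    omega
  · rw [h.zero g hN] at hg
    exact irr_one_ne_zero χ.2 hg.symm

theorem mem_iff {g : G} : (χ : G → ℂ) g ≠ 0 ↔ g ∈ N := by
  constructor
  · intro h1
    by_contra h2
    exact h1 (h.zero g h2)
  · intro h1 h2
    by_cases hg : g = 1
    · rw [hg] at h2; exact irr_one_ne_zero χ.2 h2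
    · rw [h.val g h1 hg, neg_eq_zero] at h2
      have : f = 0 := by exact_mod_cast h2
      exact h.f_pos.ne' this

theorem le_of_normal (K : Subgroup G) [K.Normal] (hK : K ≠ ⊥) : N ≤ K := by
  intro g hg
  refine mem_of_over K fun ψ hψ => ?_
  refine h.other ψ ?_ g hg
  rintro rfl
  apply hK
  rw [eq_bot_iff]
  intro k hk
  exact faithful h (hψ k hk)

theorem eq_of_faithful {ψ : IrrCharacter G}
    (hψ : ∀ g : G, (ψ : G → ℂ) g = (ψ : G → ℂ) 1 → g = 1) : ψ = χ := by
  by_contra hne
  apply h.ne_bot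
  rw [eq_bot_iff]
  intro k hk
  exact hψ k (h.other ψ hne k hk)

theorem exists_ne_one : ∃ x ∈ N, x ≠ 1 := by
  by_contra hcon
  push Not at hcon
  exact h.ne_bot (by rw [eq_bot_iff]; exact fun k hk => hcon k hk)

theorem exists_prime : ∃ p : ℕ, p.Prime ∧ ∀ x ∈ N, x ^ p = 1 := by
  obtain ⟨x, hx, hx1⟩ := exists_ne_one h
  have hn : orderOf x ≠ 1 := fun h1 => hx1 (orderOf_eq_one_iff.1 h1)
  obtain ⟨p, hp, hpd⟩ := Nat.exists_prime_and_dvd hn
  refine ⟨p, hp, ?_⟩
  set y := x ^ (orderOf x / p) with hy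
  have hoy : orderOf y = p := orderOf_pow_orderOf_div (orderOf_pos x).ne' hpd
  have hy1 : y ≠ 1 := by
    intro h1; rw [h1, orderOf_one] at hoy; exact hp.one_lt.ne hoy
  have hyN : y ∈ N := N.pow_mem hx _
  intro z hz
  by_cases hz1 : z = 1
  · rw [hz1, one_pow]
  · obtain ⟨g, hg⟩ := isConj_iff.1 (h.isConj y hyN hy1 z hz hz1)
    rw [← hg, conj_pow, ← hoy, pow_orderOf_eq_one, mul_one, mul_inv_cancel]

theorem comm {p : ℕ} [Fact p.Prime] (hp : IsPGroup p N) : IsMulCommutative N := by
  haveI := h.normal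
  haveI : Nontrivial N := (Subgroup.nontrivial_iff_ne_bot N).2 h.ne_bot
  haveI := hp.center_nontrivial
  set Z := (Subgroup.center N).map N.subtype with hZ
  have hZn : Z.Normal := by
    rw [hZ]; infer_instance
  have hZb : Z ≠ ⊥ := by
    intro h1
    rw [hZ, Subgroup.map_eq_bot_iff_of_injective _ N.subtype_injective] at h1
    exact (Subgroup.nontrivial_iff_ne_bot _).1 inferInstance h1
  have hle := le_of_normal h Z hZb
  refine ⟨⟨fun a b => ?_⟩⟩
  have ha := hle a.2
  rw [hZ, Subgroup.mem_map] at ha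
  obtain ⟨c, hc, hca⟩ := ha
  have : c = a := Subtype.ext hca
  rw [← this]
  exact (Subgroup.mem_center_iff.1 hc b).symm

theorem isPGroup_of {p : ℕ} (hp : ∀ x ∈ N, x ^ p = 1) : IsPGroup p N := by
  intro x
  exact ⟨1, by rw [pow_one]; exact Subtype.ext (hp x x.2)⟩

theorem isElementaryAbelian : ∃ p : ℕ, p.Prime ∧ Cfsg.IsElementaryAbelian p N := by
  obtain ⟨p, hp, hx⟩ := exists_prime h
  haveI := Fact.mk hp
  exact ⟨p, hp, comm h (isPGroup_of h hx), hx⟩

/-- Order of the centralizers of the nonidentity elements of `N`. -/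
theorem card_centralizer {x : G} (hx : x ∈ N) (hx1 : x ≠ 1) :
    Nat.card (Subgroup.centralizer ({x} : Set G)) = f ^ 2 * Nat.card N := by
  have h1 : Nat.card {g : G // IsConj x g} = Nat.card N - 1 := by
    have h2 : Nat.card {g : G // IsConj x g} = Nat.card {g : N // g ≠ 1} := by
      refine Nat.card_congr ⟨fun g => ⟨⟨g.1, ?_⟩, ?_⟩, fun g => ⟨g.1.1, ?_⟩, ?_, ?_⟩
      · obtain ⟨k, hk⟩ := isConj_iff.1 g.2
        rw [← hk]; exact h.normal.conj_mem x hx k
      · intro h3
        have h4 : g.1 = 1 := congrArg Subtype.val h3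
        obtain ⟨k, hk⟩ := isConj_iff.1 g.2
        rw [h4] at hk
        exact hx1 (conj_eq_one_iff.1 hk)
      · exact h.isConj x hx hx1 g.1.1 g.1.2 (fun h3 => g.2 (Subtype.ext h3))
      · intro g; rfl
      · intro g; rfl
    rw [h2]
    classical
    letI := Fintype.ofFinite N
    rw [Nat.card_eq_fintype_card, Nat.card_eq_fintype_card, Fintype.card_subtype_compl,
      Fintype.card_subtype_eq]
  have h2 := card_isConj_mul_card_centralizer x
  rw [h1, h.card] at h2
  have h3 : 0 < Nat.card N - 1 := by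
    have : 0 < Nat.card G := Nat.card_pos
    rw [h.card] at this
    exact Nat.pos_of_ne_zero fun h4 => by rw [h4, mul_zero] at this; exact lt_irrefl _ this
  rw [mul_comm] at h2
  exact Nat.eq_of_mul_eq_mul_right h3 h2

theorem card_sub_one_pos : 0 < Nat.card N - 1 := by
  have : 0 < Nat.card G := Nat.card_pos
  rw [h.card] at this
  exact Nat.pos_of_ne_zero fun h4 => by rw [h4, mul_zero] at this; exact lt_irrefl _ this

end

end H82.Gagola
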