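import Cfsg.Agent.Lib.H82.RM3
import Cfsg.Agent.Lib.H82.Const
import Cfsg.Agent.Lib.H78.Galois
import Cfsg.Agent.Lib.H18.Primitive
import Cfsg.Agent.Lib.H4.CenterIndex
import Cfsg.Agent.Lib.H1.Cores
import Cfsg.Prelude.Def_Solvable

/-!
# Faithful irreducible characters with irreducible product with a Galois conjugate
-/

set_option autoImplicit false
set_option linter.style.haveILetI false

namespace H82.GalProd

open Cfsg Representation H18.CharBasic H18.CharOrtho H18.CharInd H18.CharQuot H31.Clifford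
open H82.RM
open scoped ComplexConjugate

universe u

variable {G : Type u} [Group G]

/-- The central character of an irreducible character. -/
theorem exists_central [Finite G] {χ : G → ℂ} (hχ : IsIrrCharacter G χ) :
    ∃ l : Subgroup.center G →* ℂˣ, ∀ (z : Subgroup.center G) (g : G), χ (z * g) = l z * χ g := by
  obtain ⟨d, ρ, hρ, rfl⟩ := hχ
  have hd0 := pos_of_irr ρ hρ
  have h1 : ∀ z : Subgroup.center G, ∃ c : ℂˣ, ρ.toHomUnits z = sc d c := by
    intro z
    exact schur ρ hρ (ρ.toHomUnits z) (fun k => by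
      rw [← map_mul, ← Subgroup.mem_center_iff.1 z.2 k, map_mul, mul_inv_cancel_right])
  choose c hc using h1
  refine ⟨⟨⟨c, ?_⟩, ?_⟩, ?_⟩
  · apply sc_inj hd0
    rw [← hc, map_one, Subgroup.coe_one, map_one]
  · intro x y
    apply sc_inj hd0
    show sc d (c (x * y)) = sc d (c x * c y)
    rw [← hc, map_mul, ← hc, ← hc, Subgroup.coe_mul, map_mul]
  · intro z g
    have h2 : ρ z = (c z : ℂ) • (1 : Module.End ℂ (Fin d → ℂ)) := by
      rw [← sc_coe, ← hc z]
      rfl
    show LinearMap.trace ℂ _ (ρ (z * g)) = c z * LinearMap.trace ℂ _ (ρ g)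
    rw [map_mul, h2, smul_mul_assoc, one_mul, map_smul, smul_eq_mul]

section main

variable [Fintype G] {χ : G → ℂ} {k : ℕ}

theorem isCharacter_sq {χ : G → ℂ} (hχ : IsCharacter G χ) :
    IsCharacter G (fun g => χ g * conj (χ g)) :=
  isCharacter_mul hχ (isCharacter_conj hχ)

theorem inner_sq (hirr : IsIrrCharacter G (fun g => χ g * χ (g ^ k))) :
    classInner (fun g => χ g * conj (χ g)) (fun g => χ (g ^ k) * conj (χ (g ^ k))) = 1 := by
  rw [← inner_irr_self hirr]
  simp only [classInner, map_mul, Complex.conj_conj]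
  congr 1
  refine Finset.sum_congr rfl fun g _ => by ring

/-- No character is contained in both products and has norm at least `2`. -/
theorem norm_le_one {a b φ : G → ℂ} (hab : classInner a b = 1) (hφ : IsCharacter G φ)
    (ha : IsCharacter G (a - φ)) (hb : IsCharacter G (b - φ)) :
    ∃ n : ℕ, classInner φ φ = n ∧ n ≤ 1 := by
  obtain ⟨n, hn⟩ := inner_char_natCast hφ hφ
  obtain ⟨n₁, hn₁⟩ := inner_char_natCast ha hφ
  obtain ⟨n₂, hn₂⟩ := inner_char_natCast hφ hb
  obtain ⟨n₃, hn₃⟩ := inner_char_natCast ha hb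
  refine ⟨n, hn, ?_⟩
  have h1 : classInner a b = classInner φ φ + classInner (a - φ) φ + classInner φ (b - φ) +
      classInner (a - φ) (b - φ) := by
    simp only [H18.CharOrtho.inner_sub_left, H18.CharOrtho.inner_sub_right]
    ring
  rw [hab, hn, hn₁, hn₂, hn₃] at h1
  have h2 : 1 = n + n₁ + n₂ + n₃ := by exact_mod_cast h1
  omega

theorem mem_pow_iff (hk : Nat.Coprime k (Nat.card G)) (T : Subgroup G) (g : G) : g ^ k ∈ T ↔ g ∈ T := by
  constructor
  · intro h
    obtain ⟨l, hl⟩ := H78.Galois.exists_pow_pow_eq hk g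
    rw [← hl]
    exact T.pow_mem h l
  · exact fun h => T.pow_mem h k

theorem perm_pow (hk : Nat.Coprime k (Nat.card G)) (T : Subgroup G) (g : G) :
    indFun T (fun _ => (1 : ℂ)) (g ^ k) = indFun T (fun _ => (1 : ℂ)) g := by
  rw [indFun_apply, indFun_apply]
  congr 1
  refine Finset.sum_congr rfl fun x _ => ?_
  have h1 : x⁻¹ * g ^ k * x = (x⁻¹ * g * x) ^ k := by
    have := conj_pow (i := k) (a := x⁻¹) (b := g)
    rw [inv_inv] at this
    exact this.symm
  rw [h1]
  by_cases h2 : x⁻¹ * g * x ∈ T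
  · rw [ext_mem _ _ h2, ext_mem _ _ ((mem_pow_iff hk T _).2 h2)]
  · rw [ext_notMem _ _ h2, ext_notMem _ _ (fun h => h2 ((mem_pow_iff hk T _).1 h))]

theorem perm_norm (T : Subgroup G) {n : ℕ}
    (hn : classInner (indFun T (fun _ => (1 : ℂ))) (indFun T (fun _ => (1 : ℂ))) = n) (hn1 : n ≤ 1) :
    T = ⊤ := by
  classical
  letI := Fintype.ofFinite T
  set π := indFun T (fun _ => (1 : ℂ)) with hπ
  have hπc : IsCharacter G π := isCharacter_ind T isCharacter_one
  have h1 : classInner π (fun _ => 1) = 1 := by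
    rw [hπ, frobenius T _ (isClassFunction_of_isIrr isIrrCharacter_one)]
    exact inner_irr_self isIrrCharacter_one
  have h2 := isCharacter_sub_constituent hπc isIrrCharacter_one (by rw [h1]; exact one_ne_zero)
  obtain ⟨m, hm⟩ := inner_char_natCast h2 h2
  have h3 : classInner (π - fun _ => 1) (π - fun _ => 1) = classInner π π - 1 := by
    have h4 : classInner (fun _ => 1) π = 1 := by
      rw [← H18.CharOrtho.inner_conj_symm, h1, map_one]
    rw [H18.CharOrtho.inner_sub_left, H18.CharOrtho.inner_sub_right, H18.CharOrtho.inner_sub_right, h1, h4,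
      inner_irr_self isIrrCharacter_one]
    ring
  have h4 : classInner (π - fun _ => 1) (π - fun _ => 1) = 0 := by
    rw [hm, hn] at h3
    have h5 : m + 1 = n := by
      have : ((m + 1 : ℕ) : ℂ) = n := by
        push_cast
        rw [h3]
        ring
      exact_mod_cast this
    rw [hm]
    have : m = 0 := by omega
    rw [this, Nat.cast_zero]
  have h5 : π = fun _ => 1 := sub_eq_zero.1 (inner_self_eq_zero.1 h4)
  have h6 := congrFun h5 1
  rw [hπ, indFun_one, mul_one] at h6
  exact Subgroup.index_eq_one.1 (by exact_mod_cast h6)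

theorem abelian_central (hχ : IsIrrCharacter G χ) (hfaith : ∀ g : G, χ g = χ 1 → g = 1)
    (hk : Nat.Coprime k (Nat.card G)) (hirr : IsIrrCharacter G (fun g => χ g * χ (g ^ k)))
    (A : Subgroup G) [A.Normal] (hcomm : ∀ a ∈ A, ∀ b ∈ A, a * b = b * a) :
    A ≤ Subgroup.center G := by
  classical
  rcases H18.Primitive.central_or_induced hχ A (fun a ha b hb => by
    rw [hcomm a ha b hb, mul_inv_cancel_right, mul_inv_cancel]) with h | ⟨T, ψ, hT, hψ, hind⟩
  · intro a ha
    rw [Subgroup.mem_center_iff]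
    intro g
    have h1 := hfaith _ (h a ha g)
    rw [mul_inv_eq_one, mul_inv_eq_iff_eq_mul] at h1
    exact h1.symm
  · exfalso
    letI := Fintype.ofFinite T
    have hχc := isCharacter_of_isIrr hχ
    have hψc := isCharacter_of_isIrr hψ
    have h1 : classInner (fun t : T => χ t) ψ ≠ 0 := by
      rw [← frobenius' T ψ (isClassFunction_of_isIrr hχ), hind, inner_irr_self hχ]
      exact one_ne_zero
    have h2 := isCharacter_sub_constituent (isCharacter_restrict T hχc) hψ h1
    have h3 : IsCharacter T (fun t => ψ t * conj (ψ t) - 1) := by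
      refine isCharacter_sub_constituent (isCharacter_sq hψc) isIrrCharacter_one ?_
      have h4 : classInner (fun t : T => ψ t * conj (ψ t)) (fun _ => 1) = classInner ψ ψ := by
        simp only [classInner, map_one, mul_one]
      rw [h4, inner_irr_self hψ]
      exact one_ne_zero
    have h4 : IsCharacter T (fun t => ψ t * conj (χ t) - 1) := by
      have h5 := isCharacter_add (isCharacter_mul hψc (isCharacter_conj h2)) h3
      convert h5 using 1
      funext t
      simp only [Pi.add_apply, Pi.mul_apply, Pi.sub_apply, map_sub]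
      ring
    have h5 : (fun g => χ g * conj (χ g)) - indFun T (fun _ => (1 : ℂ)) =
        indFun T (fun t => ψ t * conj (χ t) - 1) := by
      have h6 : (fun t : T => ψ t * conj (χ t) - 1) =
          (fun t : T => ψ t * conj (χ t)) - fun _ => (1 : ℂ) := rfl
      rw [h6, indFun_sub]
      congr 1
      have h7 := indFun_mul_restrict T ψ (isClassFunction_of_isCharacter (isCharacter_conj hχc))
      rw [hind] at h7
      exact h7.symm
    have h6 : IsCharacter G ((fun g => χ g * conj (χ g)) - indFun T (fun _ => (1 : ℂ))) := by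
      rw [h5]
      exact isCharacter_ind T h4
    have h7 : IsCharacter G ((fun g => χ (g ^ k) * conj (χ (g ^ k))) - indFun T (fun _ => (1 : ℂ))) := by
      have h8 := H78.Galois.isCharacter_pow hk h6
      convert h8 using 1
      funext g
      simp only [Pi.sub_apply]
      rw [perm_pow hk]
    obtain ⟨n, hn, hn1⟩ := norm_le_one (inner_sq hirr) (isCharacter_ind T isCharacter_one) h6 h7
    exact hT (perm_norm T hn hn1)

/-- An irreducible nontrivial `β` cannot be a constituent of both products. -/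
theorem no_common {a b β : G → ℂ} (hab : classInner a b = 1) (ha : IsCharacter G a)
    (hb : IsCharacter G b) (ha1 : classInner a (fun _ => 1) ≠ 0) (hb1 : classInner b (fun _ => 1) ≠ 0)
    (hβ : IsIrrCharacter G β) (hβ1 : β ≠ fun _ => 1) (haβ : classInner a β ≠ 0)
    (hbβ : classInner b β ≠ 0) : False := by
  have h0 : classInner β (fun _ => 1) = 0 := inner_irr_ne hβ isIrrCharacter_one hβ1
  have h1 : classInner (a - β) (fun _ => 1) ≠ 0 := by
    rw [H18.CharOrtho.inner_sub_left, h0, sub_zero]; exact ha1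
  have h2 : classInner (b - β) (fun _ => 1) ≠ 0 := by
    rw [H18.CharOrtho.inner_sub_left, h0, sub_zero]; exact hb1
  have h3 := isCharacter_sub_constituent (isCharacter_sub_constituent ha hβ haβ) isIrrCharacter_one h1
  have h4 := isCharacter_sub_constituent (isCharacter_sub_constituent hb hβ hbβ) isIrrCharacter_one h2
  have h5 : IsCharacter G (β + fun _ => 1) := isCharacter_add (isCharacter_of_isIrr hβ) isCharacter_one
  obtain ⟨n, hn, hn1⟩ := norm_le_one hab h5 (by rwa [← sub_sub]) (by rwa [← sub_sub])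
  have h6 : classInner (fun _ => 1) β = 0 := inner_irr_ne isIrrCharacter_one hβ hβ1.symm
  rw [H18.CharOrtho.inner_add_left, H18.CharOrtho.inner_add_right, H18.CharOrtho.inner_add_right,
    inner_irr_self hβ, inner_irr_self isIrrCharacter_one, h0, h6] at hn
  have h7 : (2 : ℂ) = n := by rw [← hn]; ring
  have h8 : 2 = n := by exact_mod_cast h7
  omega

theorem inner_sq_one {χ : G → ℂ} (hχ : IsIrrCharacter G χ) :
    classInner (fun g => χ g * conj (χ g)) (fun _ => 1) ≠ 0 := by
  have h4 : classInner (fun t => χ t * conj (χ t)) (fun _ => 1) = classInner χ χ := by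
    simp only [classInner, map_one, mul_one]
  rw [h4, inner_irr_self hχ]
  exact one_ne_zero

section setup

omit [Fintype G]

/-- `[s, m] ∈ Z`. -/
def SS (m : G) : Subgroup G where
  carrier := {s | s * m * s⁻¹ * m⁻¹ ∈ Subgroup.center G}
  mul_mem' := by
    intro s t hs ht
    have h1 : s * t * m * (s * t)⁻¹ * m⁻¹ = s * (t * m * t⁻¹ * m⁻¹) * s⁻¹ * (s * m * s⁻¹ * m⁻¹) := by
      group
    show s * t * m * (s * t)⁻¹ * m⁻¹ ∈ Subgroup.center G
    rw [h1]
    have h2 : s * (t * m * t⁻¹ * m⁻¹) * s⁻¹ = t * m * t⁻¹ * m⁻¹ := by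
      rw [Subgroup.mem_center_iff.1 ht s, mul_inv_cancel_right]
    rw [h2]
    exact mul_mem ht hs
  one_mem' := by
    show (1 : G) * m * 1⁻¹ * m⁻¹ ∈ Subgroup.center G
    rw [one_mul, inv_one, mul_one, mul_inv_cancel]
    exact one_mem _
  inv_mem' := by
    intro s hs
    show s⁻¹ * m * s⁻¹⁻¹ * m⁻¹ ∈ Subgroup.center G
    have h1 : s⁻¹ * m * s⁻¹⁻¹ * m⁻¹ = s⁻¹ * (s * m * s⁻¹ * m⁻¹)⁻¹ * s := by group
    rw [h1, Subgroup.mem_center_iff.1 (inv_mem hs) s⁻¹, inv_mul_cancel_right]
    exact inv_mem hs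

theorem mem_SS {m s : G} : s ∈ SS m ↔ s * m * s⁻¹ * m⁻¹ ∈ Subgroup.center G := Iff.rfl

/-- The linear character `s ↦ l [s, m]`. -/
def mu (l : Subgroup.center G →* ℂˣ) (m : G) : SS m →* ℂˣ where
  toFun s := l ⟨s * m * (s : G)⁻¹ * m⁻¹, s.2⟩
  map_one' := by
    rw [← map_one l]
    congr 1
    apply Subtype.ext
    show (1 : G) * m * 1⁻¹ * m⁻¹ = 1
    simp
  map_mul' := by
    intro s t
    rw [← map_mul]
    congr 1
    apply Subtype.ext
    show (s : G) * t * m * ((s : G) * t)⁻¹ * m⁻¹ = (s * m * (s : G)⁻¹ * m⁻¹) * (t * m * (t : G)⁻¹ * m⁻¹)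
    have h1 : (s : G) * t * m * ((s : G) * t)⁻¹ * m⁻¹ = s * (t * m * (t : G)⁻¹ * m⁻¹) * (s : G)⁻¹ *
      (s * m * (s : G)⁻¹ * m⁻¹) := by group
    rw [h1, Subgroup.mem_center_iff.1 t.2 s, mul_inv_cancel_right]
    exact (Subgroup.mem_center_iff.1 t.2 _).symm

theorem mu_apply (l : Subgroup.center G →* ℂˣ) (m : G) (s : SS m) :
    mu l m s = l ⟨s * m * (s : G)⁻¹ * m⁻¹, s.2⟩ := rfl

theorem chi_mu {l : Subgroup.center G →* ℂˣ} (hχ : IsClassFunction G χ)
    (hl : ∀ (z : Subgroup.center G) (g : G), χ (z * g) = l z * χ g) (m : G) (s : SS m) :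
    χ s = (mu l m s : ℂ) * χ s := by
  have h1 := hl ⟨s * m * (s : G)⁻¹ * m⁻¹, s.2⟩ s
  rw [← mu_apply] at h1
  rw [← h1]
  show χ s = χ (s * m * (s : G)⁻¹ * m⁻¹ * s)
  have h2 : (s : G) * m * (s : G)⁻¹ * m⁻¹ * s = m⁻¹ * s * m⁻¹⁻¹ := by
    have h3 := Subgroup.mem_center_iff.1 s.2 m⁻¹
    rw [inv_inv]
    calc (s : G) * m * (s : G)⁻¹ * m⁻¹ * s = ((s * m * (s : G)⁻¹ * m⁻¹) * m⁻¹) * (m * s) := by group
      _ = (m⁻¹ * (s * m * (s : G)⁻¹ * m⁻¹)) * (m * s) := by rw [h3]
      _ = m⁻¹ * s * m := by group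
  rw [h2, hχ]

end setup

end main

end H82.GalProd
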