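import Mathlib

/-!
# Products of elements in coprime orbits
-/

set_option autoImplicit false

namespace H82.OrbProd

open MulAction

variable {G A : Type*} [Group G] [Finite G] [CommGroup A] [Finite A] [MulDistribMulAction G A]

omit [Finite A] in
theorem stabilizer_inf_le (x y : A) : stabilizer G x ⊓ stabilizer G y ≤ stabilizer G (x * y) := by
  rintro g ⟨h1, h2⟩
  rw [mem_stabilizer_iff, smul_mul', mem_stabilizer_iff.1 h1, mem_stabilizer_iff.1 h2]

omit [Finite A] in
theorem stabilizer_pow_le (x : A) (k : ℕ) : stabilizer G x ≤ stabilizer G (x ^ k) := by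
  intro g h1
  rw [mem_stabilizer_iff, smul_pow', mem_stabilizer_iff.1 h1]

omit [Finite A] in
theorem stabilizer_inv (x : A) : stabilizer G x⁻¹ = stabilizer G x := by
  ext g
  rw [mem_stabilizer_iff, mem_stabilizer_iff, smul_inv', inv_inj]

omit [Finite A] in
/-- The stabilizer of a product of elements of coprime orders. -/
theorem stabilizer_mul_of_coprime {x y : A} {a b : ℕ} (hab : a.Coprime b) (hx : x ^ a = 1)
    (hy : y ^ b = 1) : stabilizer G (x * y) = stabilizer G x ⊓ stabilizer G y := by
  apply le_antisymm _ (stabilizer_inf_le x y)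
  intro g hg
  rw [mem_stabilizer_iff, smul_mul'] at hg
  -- `(g • x) x⁻¹ = y (g • y)⁻¹`
  have h1 : (g • x) * x⁻¹ = y * (g • y)⁻¹ := by
    rw [mul_inv_eq_iff_eq_mul, mul_assoc, mul_comm _ x, ← mul_assoc, mul_comm y x, ← hg, mul_assoc,
      mul_inv_cancel, mul_one]
  have h2 : ((g • x) * x⁻¹) ^ a = 1 := by
    rw [mul_pow, ← smul_pow', hx, smul_one, inv_pow, hx, inv_one, mul_one]
  have h3 : ((g • x) * x⁻¹) ^ b = 1 := by
    rw [h1, mul_pow, inv_pow, ← smul_pow', hy, smul_one, inv_one, mul_one]
  have h4 : (g • x) * x⁻¹ = 1 := by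
    rw [← orderOf_eq_one_iff]
    exact Nat.eq_one_of_dvd_coprimes hab (orderOf_dvd_of_pow_eq_one h2) (orderOf_dvd_of_pow_eq_one h3)
  have h5 : g • x = x := mul_inv_eq_one.1 h4
  rw [h5] at hg
  exact ⟨h5, mul_left_cancel hg⟩

omit [CommGroup A] [Finite A] [MulDistribMulAction G A] in
/-- Transitivity on pairs for coprime orbits. -/
theorem exists_pair [MulAction G A] {x y : A} (hco : (stabilizer G x).index.Coprime (stabilizer G y).index)
    {x' y' : A} (hx : x' ∈ orbit G x) (hy : y' ∈ orbit G y) : ∃ g : G, g • x = x' ∧ g • y = y' := by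
  classical
  obtain ⟨a, rfl⟩ := hx
  obtain ⟨b, rfl⟩ := hy
  -- index of the intersection
  have h1 : (stabilizer G x ⊓ stabilizer G y).index =
      (stabilizer G x).index * (stabilizer G y).index := by
    apply le_antisymm Subgroup.index_inf_le
    apply Nat.le_of_dvd (Nat.pos_of_ne_zero Subgroup.index_ne_zero_of_finite)
    exact hco.mul_dvd_of_dvd_of_dvd (Subgroup.index_dvd_of_le inf_le_left)
      (Subgroup.index_dvd_of_le inf_le_right)
  have h2 : stabilizer G ((x, y) : A × A) = stabilizer G x ⊓ stabilizer G y := by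
    ext g
    simp only [mem_stabilizer_iff, Prod.smul_mk, Prod.mk.injEq, Subgroup.mem_inf]
  have h3 : orbit G ((x, y) : A × A) ⊆ orbit G x ×ˢ orbit G y := by
    rintro _ ⟨g, rfl⟩
    exact ⟨⟨g, rfl⟩, ⟨g, rfl⟩⟩
  have h4 : (orbit G ((x, y) : A × A)) = orbit G x ×ˢ orbit G y := by
    have h6 : (orbit G x ×ˢ orbit G y).Finite := (Set.finite_range _).prod (Set.finite_range _)
    apply Set.eq_of_subset_of_ncard_le h3 _ h6
    rw [Set.ncard_prod, ← index_stabilizer, ← index_stabilizer, ← index_stabilizer, h2, h1]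
  have h5 : ((a • x, b • y) : A × A) ∈ orbit G ((x, y) : A × A) := by
    rw [h4]; exact ⟨⟨a, rfl⟩, ⟨b, rfl⟩⟩
  obtain ⟨g, hg⟩ := h5
  exact ⟨g, congrArg Prod.fst hg, congrArg Prod.snd hg⟩

/-- Lemma O: for coprime orbits of `x`, `y` with `y` of `p`-power order and not fixed, and `p` not
dividing the size of the orbit of `x`, the orbit sizes of `x * y` and `y` are not coprime. -/
theorem not_coprime_mul {x y : A}
    (hco : (stabilizer G x).index.Coprime (stabilizer G y).index)
    (hy1 : (stabilizer G y).index ≠ 1) {p k : ℕ} [hp : Fact p.Prime] (hyp : y ^ p ^ k = 1)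
    (hpx : ¬ p ∣ (stabilizer G x).index) :
    ¬ (stabilizer G (x * y)).index.Coprime (stabilizer G y).index := by
  classical
  intro hcon
  have h1 : (stabilizer G (x * y)).index ∣ (stabilizer G x).index * (stabilizer G y).index := by
    refine (Subgroup.index_dvd_of_le (stabilizer_inf_le x y)).trans ?_
    have h2 : (stabilizer G x ⊓ stabilizer G y).index =
        (stabilizer G x).index * (stabilizer G y).index := by
      apply le_antisymm Subgroup.index_inf_le
      apply Nat.le_of_dvd (Nat.pos_of_ne_zero Subgroup.index_ne_zero_of_finite)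
      exact hco.mul_dvd_of_dvd_of_dvd (Subgroup.index_dvd_of_le inf_le_left)
        (Subgroup.index_dvd_of_le inf_le_right)
    rw [h2]
  have h2 : (stabilizer G (x * y)).index ∣ (stabilizer G x).index := hcon.dvd_of_dvd_mul_right h1
  have h3 : (orbit G (x * y)).ncard ≤ (orbit G x).ncard := by
    rw [← index_stabilizer, ← index_stabilizer]
    exact Nat.le_of_dvd (Nat.pos_of_ne_zero Subgroup.index_ne_zero_of_finite) h2
  have h4 : ∀ y' ∈ orbit G y, (fun z => z * y') '' orbit G x = orbit G (x * y) := by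
    intro y' hy'
    apply Set.eq_of_subset_of_ncard_le
    · rintro _ ⟨x', hx', rfl⟩
      obtain ⟨g, hg1, hg2⟩ := exists_pair hco hx' hy'
      exact ⟨g, by show g • (x * y) = x' * y'; rw [smul_mul', hg1, hg2]⟩
    · rw [Set.ncard_image_of_injective _ (mul_left_injective y')]
      exact h3
    · exact Set.finite_range _
  -- another element of the orbit of `y`
  obtain ⟨y', hy', hne⟩ : ∃ y' ∈ orbit G y, y' ≠ y := by
    by_contra hcon2
    push Not at hcon2
    apply hy1
    rw [Subgroup.index_eq_one, eq_top_iff]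
    intro g _
    exact hcon2 (g • y) ⟨g, rfl⟩
  set w := y' * y⁻¹ with hw
  have hw1 : w ≠ 1 := fun h => hne (mul_inv_eq_one.1 h)
  have hwp : w ^ p ^ k = 1 := by
    obtain ⟨g, rfl⟩ := hy'
    show ((g • y) * y⁻¹) ^ p ^ k = 1
    rw [mul_pow, ← smul_pow', hyp, smul_one, inv_pow, hyp, inv_one, mul_one]
  have hXw : ∀ z ∈ orbit G x, z * w ∈ orbit G x := by
    intro z hz
    have h5 : z * y' ∈ (fun z => z * y) '' orbit G x := by
      rw [h4 y (mem_orbit_self y), ← h4 y' hy']
      exact ⟨z, hz, rfl⟩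
    obtain ⟨z', hz', hzz⟩ := h5
    have h6 : z * w = z' := by
      rw [hw, ← mul_assoc, ← hzz]
      show z' * y * y⁻¹ = z'
      rw [mul_assoc, mul_inv_cancel, mul_one]
    rw [h6]; exact hz'
  let f : Function.End (orbit G x) := fun z => ⟨z.1 * w, hXw z.1 z.2⟩
  have hf : ∀ n : ℕ, ∀ z : orbit G x, ((f ^ n) z : A) = z * w ^ n := by
    intro n
    induction n with
    | zero => intro z; rw [pow_zero, pow_zero, mul_one]; rfl
    | succ n ih =>
      intro z
      rw [pow_succ]
      show ((f ^ n) (f z) : A) = _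
      rw [ih (f z)]
      show (z : A) * w * w ^ n = _
      rw [mul_assoc, pow_succ']
  have hf1 : f ^ p ^ k = 1 := by
    funext z
    apply Subtype.ext
    rw [hf, hwp, mul_one]
    rfl
  haveI : Fintype (orbit G x) := Fintype.ofFinite _
  have h7 := Equiv.Perm.card_fixedPoints_modEq hf1
  have h8 : Fintype.card f.fixedPoints = 0 := by
    rw [Fintype.card_eq_zero_iff]
    refine ⟨fun z => ?_⟩
    have h9 : f z.1 = z.1 := z.2
    have h10 : (z.1 : A) * w = z.1 := congrArg Subtype.val h9
    exact hw1 (mul_eq_left.1 h10)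
  rw [h8] at h7
  apply hpx
  rw [index_stabilizer, ← Nat.card_coe_set_eq, Nat.card_eq_fintype_card]
  exact (Nat.modEq_zero_iff_dvd).1 h7

end H82.OrbProd
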