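import Mathlib
import Cfsg.Agent.Lib.H31.Clifford
import Cfsg.Agent.Lib.H83.Gallagher
import Cfsg.Agent.Lib.H77.Conv
import Cfsg.Agent.Lib.H77.PQuot

/-!
# Counting characters lying over a character: definitions, transport, Gallagher correspondence
-/

set_option autoImplicit false
set_option linter.unusedSectionVars false
set_option linter.style.haveILetI false

namespace H82.RM

open Cfsg H18.CharBasic H18.CharOrtho H18.CharInd H18.CharQuot H31.Clifford
open scoped ComplexConjugate

universe u v w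

section defs

/-- `μ` lies under `χ` along `f`. -/
def Und {L : Type u} {H : Type v} [Group L] [Group H] (f : L →* H) (χ : H → ℂ) (μ : L → ℂ) : Prop :=
  (∑ᶠ l : L, χ (f l) * conj (μ l)) ≠ 0

theorem und_iff {L : Type u} {H : Type v} [Group L] [Group H] [Fintype L] (f : L →* H) (χ : H → ℂ)
    (μ : L → ℂ) : Und f χ μ ↔ classInner (fun l => χ (f l)) μ ≠ 0 := by
  unfold Und classInner
  rw [finsum_eq_sum_of_fintype]
  have h0 : (Nat.card L : ℂ)⁻¹ ≠ 0 := inv_ne_zero card_ne_zero'
  constructor
  · intro h h1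
    exact h ((mul_eq_zero.mp h1).resolve_left h0)
  · intro h h1
    apply h
    rw [h1, mul_zero]

/-- Number of irreducible characters of `H` over `μ` of degree not divisible by `p`. -/
noncomputable def cnt (p : ℕ) {L : Type u} {H : Type v} [Group L] [Group H] (f : L →* H) (μ : L → ℂ) :
    ℕ :=
  Nat.card {χ : IrrCharacter H // ¬ p ∣ charDegree (χ : H → ℂ) ∧ Und f χ μ}

/-- Number of irreducible characters of `H` of degree not divisible by `p` with prescribed values
on central elements. -/
noncomputable def cz (p : ℕ) {Z : Type u} {H : Type v} [Group H] (f : Z → H) (lam : Z → ℂ) : ℕ :=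
  Nat.card {χ : IrrCharacter H // ¬ p ∣ charDegree (χ : H → ℂ) ∧
    ∀ z, (χ : H → ℂ) (f z) = (χ : H → ℂ) 1 * lam z}

end defs

section transport

variable {H : Type u} {H' : Type v} [Group H] [Group H']

theorem charDegree_comp (e : H ≃* H') (χ : H' → ℂ) :
    charDegree (fun h => χ (e h)) = charDegree χ := by
  unfold charDegree
  show ⌊(χ (e 1)).re⌋₊ = _
  rw [map_one]

/-- Irreducible characters transport along isomorphisms. -/
noncomputable def irrE (e : H ≃* H') : IrrCharacter H' ≃ IrrCharacter H where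
  toFun χ := ⟨fun h => (χ : H' → ℂ) (e h), (isIrrCharacter_mulEquiv e).1 χ.2⟩
  invFun χ := ⟨fun h => (χ : H → ℂ) (e.symm h), (isIrrCharacter_mulEquiv e.symm).1 χ.2⟩
  left_inv χ := by
    apply Subtype.ext; funext h
    show (χ : H' → ℂ) (e (e.symm h)) = _
    rw [e.apply_symm_apply]
  right_inv χ := by
    apply Subtype.ext; funext h
    show (χ : H → ℂ) (e.symm (e h)) = _
    rw [e.symm_apply_apply]

theorem irrE_apply (e : H ≃* H') (χ : IrrCharacter H') (h : H) :
    (irrE e χ : H → ℂ) h = (χ : H' → ℂ) (e h) := rfl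

theorem cnt_congr {L : Type w} [Group L] (p : ℕ) (e : H ≃* H') (f : L →* H) (μ : L → ℂ) :
    cnt p (e.toMonoidHom.comp f) μ = cnt p f μ := by
  unfold cnt
  refine Nat.card_congr ((irrE e).subtypeEquiv fun χ => ?_)
  have h1 : charDegree (irrE e χ : H → ℂ) = charDegree (χ : H' → ℂ) := charDegree_comp e χ
  rw [h1]
  rfl

theorem cnt_congr_of {L : Type w} [Group L] (p : ℕ) (e : H ≃* H') (f : L →* H) (f' : L →* H')
    (h : ∀ l, e (f l) = f' l) (μ : L → ℂ) : cnt p f' μ = cnt p f μ := by
  have h1 : f' = e.toMonoidHom.comp f := by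
    ext l; exact (h l).symm
  rw [h1, cnt_congr]

theorem cnt_congr_left {L : Type w} {L' : Type*} [Group L] [Group L'] (p : ℕ) (e : L' ≃* L)
    (f : L →* H) (μ : L → ℂ) : cnt p (f.comp e.toMonoidHom) (fun l => μ (e l)) = cnt p f μ := by
  unfold cnt
  refine Nat.card_congr ((Equiv.refl _).subtypeEquiv fun χ => ?_)
  have h1 : Und (f.comp e.toMonoidHom) (χ : H → ℂ) (fun l => μ (e l)) ↔ Und f (χ : H → ℂ) μ := by
    unfold Und
    rw [← finsum_comp_equiv e.toEquiv (f := fun l => (χ : H → ℂ) (f l) * conj (μ l))]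
    rfl
  rw [h1]
  rfl

theorem cz_congr_of {Z : Type w} (p : ℕ) (e : H ≃* H') (f : Z → H) (f' : Z → H')
    (h : ∀ z, e (f z) = f' z) (lam : Z → ℂ) : cz p f' lam = cz p f lam := by
  unfold cz
  refine Nat.card_congr ((irrE e).subtypeEquiv fun χ => ?_)
  have h1 : charDegree (irrE e χ : H → ℂ) = charDegree (χ : H' → ℂ) := charDegree_comp e χ
  rw [h1]
  simp only [irrE_apply, map_one, h]

end transport

section factor

variable {A : Type u} {B : Type v} [Group A] [Group B] [Finite A]

/-- Irreducible characters factor through surjections. -/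
theorem exists_factor (q : A →* B) (hq : Function.Surjective q) {χ : A → ℂ}
    (hχ : IsIrrCharacter A χ) (hk : ∀ k ∈ q.ker, χ k = χ 1) :
    ∃ δ : B → ℂ, IsIrrCharacter B δ ∧ ∀ a, χ a = δ (q a) := by
  have h1 := isIrrCharacter_deflate q.ker hχ hk
  let e : A ⧸ q.ker ≃* B := QuotientGroup.quotientKerEquivOfSurjective q hq
  refine ⟨fun b => deflate q.ker χ (e.symm b), (isIrrCharacter_mulEquiv e.symm).1 h1, fun a => ?_⟩
  have h2 : e.symm (q a) = (a : A ⧸ q.ker) := by
    rw [MulEquiv.symm_apply_eq]; rfl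
  show χ a = deflate q.ker χ (e.symm (q a))
  rw [h2, deflate_mk q.ker (isCharacter_of_isIrr hχ) hk]

end factor

section gallagher

variable {A : Type u} {H : Type v} {B : Type w} [Group A] [Group H] [Group B] [Finite A]

/-- The correspondence between characters of `H` and of `B` given by a common cover `A` and a
character `β` of `A` irreducible on the kernel of `A → B`. -/
theorem corrG (π : A →* H) (hπ : Function.Surjective π) (q : A →* B) (hq : Function.Surjective q)
    {β : A → ℂ} (hβ : IsIrrCharacter A β) (hβM : IsIrrCharacter q.ker (fun x : q.ker => β x))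
    (P : ℕ → Prop) :
    Nat.card {χ : IrrCharacter H // P (charDegree (χ : H → ℂ)) ∧
        Und (π.comp q.ker.subtype) (χ : H → ℂ) (fun x => β x)} =
      Nat.card {δ : IrrCharacter B // P (charDegree (δ : B → ℂ) * charDegree β) ∧
        ∀ k ∈ π.ker, (δ : B → ℂ) (q k) * β k = (δ : B → ℂ) 1 * β 1} := by
  classical
  haveI : Finite H := Finite.of_surjective π hπ
  haveI : Finite B := Finite.of_surjective q hq
  letI := Fintype.ofFinite A
  letI := Fintype.ofFinite q.ker
  have hβ1 := irr_one_ne_zero hβ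
  -- inflation of `δ`
  have hinf : ∀ δ : IrrCharacter B, IsIrrCharacter A (fun a => (δ : B → ℂ) (q a)) :=
    fun δ => isIrrCharacter_comp q hq δ.2
  have hinv : ∀ δ : IrrCharacter B, ∀ g : A, ∀ n ∈ q.ker, (δ : B → ℂ) (q (g * n)) = (δ : B → ℂ) (q g) := by
    intro δ g n hn
    rw [map_mul, MonoidHom.mem_ker.mp hn, mul_one]
  have hmul : ∀ δ : IrrCharacter B, IsIrrCharacter A (fun a => (δ : B → ℂ) (q a) * β a) := by
    intro δ
    apply H83.Gallagher.isIrr_mul hβ q.ker hβM (hinf δ)
    intro n hn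
    show (δ : B → ℂ) (q n) = (δ : B → ℂ) (q 1)
    rw [MonoidHom.mem_ker.mp hn, map_one]
  -- the map from right to left
  have hex : ∀ δ : {δ : IrrCharacter B // P (charDegree (δ : B → ℂ) * charDegree β) ∧
      ∀ k ∈ π.ker, (δ : B → ℂ) (q k) * β k = (δ : B → ℂ) 1 * β 1},
      ∃ χ : {χ : IrrCharacter H // P (charDegree (χ : H → ℂ)) ∧
        Und (π.comp q.ker.subtype) (χ : H → ℂ) (fun x => β x)},
        ∀ a : A, (χ.1 : H → ℂ) (π a) = (δ.1 : B → ℂ) (q a) * β a := by
    rintro ⟨δ, hδ1, hδ2⟩
    obtain ⟨χ, hχ, hχa⟩ := exists_factor π hπ (hmul δ) (fun k hk => by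
      show (δ : B → ℂ) (q k) * β k = (δ : B → ℂ) (q 1) * β 1
      rw [map_one]; exact hδ2 k hk)
    have hdeg : charDegree χ = charDegree (δ : B → ℂ) * charDegree β := by
      have h1 := hχa 1
      simp only [map_one] at h1
      apply H77.PQuot.charDegree_eq_of
      rw [← h1]
      push_cast
      rw [H77.PQuot.cast_irr, H77.PQuot.cast_irr' hβ]
    refine ⟨⟨⟨χ, hχ⟩, ?_, ?_⟩, fun a => (hχa a).symm⟩
    · show P (charDegree χ)
      rw [hdeg]; exact hδ1
    · rw [und_iff]
      have h2 : (fun l : q.ker => χ ((π.comp q.ker.subtype) l)) =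
          fun l : q.ker => (δ : B → ℂ) 1 * β l := by
        funext l
        show χ (π l) = _
        rw [← hχa l]
        show (δ : B → ℂ) (q l) * β l = _
        rw [MonoidHom.mem_ker.mp l.2]
      show classInner (fun l : q.ker => χ ((π.comp q.ker.subtype) l)) _ ≠ 0
      rw [h2]
      have h3 : (fun l : q.ker => (δ : B → ℂ) 1 * β l) = (δ : B → ℂ) 1 • (fun l : q.ker => β l) := rfl
      rw [h3, H18.CharOrtho.inner_smul_left, inner_irr_self hβM, mul_one]
      exact irr_one_ne_zero δ.2
  choose Φ hΦ using hex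
  symm
  refine Nat.card_congr (Equiv.ofBijective Φ ⟨?_, ?_⟩)
  · intro δ δ' h
    have h1 : (fun a => (δ.1 : B → ℂ) (q a)) = fun a => (δ'.1 : B → ℂ) (q a) := by
      apply H83.Gallagher.mul_inj hβ q.ker hβM (hinv δ.1) (hinv δ'.1)
      intro g
      show (δ.1 : B → ℂ) (q g) * β g = (δ'.1 : B → ℂ) (q g) * β g
      rw [← hΦ, ← hΦ, h]
    apply Subtype.ext
    apply Subtype.ext
    funext b
    obtain ⟨a, rfl⟩ := hq b
    exact congrFun h1 a
  · rintro ⟨χ, hχ1, hχ2⟩
    have hη : IsIrrCharacter A (fun a => (χ : H → ℂ) (π a)) := isIrrCharacter_comp π hπ χ.2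
    rw [und_iff] at hχ2
    obtain ⟨γ, hγ, hγk, hγe⟩ := H83.Gallagher.exists_eq_mul hβ q.ker hβM hη hχ2
    obtain ⟨δ, hδ, hδa⟩ := exists_factor q hq hγ hγk
    have hval : ∀ a : A, (χ : H → ℂ) (π a) = δ (q a) * β a := by
      intro a
      have := congrFun hγe a
      rw [← hδa]
      exact this
    have hdeg : charDegree (χ : H → ℂ) = charDegree δ * charDegree β := by
      have h1 := hval 1
      simp only [map_one] at h1
      apply H77.PQuot.charDegree_eq_of
      rw [h1]
      push_cast
      rw [H77.PQuot.cast_irr' hδ, H77.PQuot.cast_irr' hβ]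
    refine ⟨⟨⟨δ, hδ⟩, ?_, ?_⟩, ?_⟩
    · show P (charDegree δ * charDegree β)
      rw [← hdeg]; exact hχ1
    · intro k hk
      show δ (q k) * β k = δ 1 * β 1
      have h2 := hval k
      have h3 := hval 1
      rw [MonoidHom.mem_ker.mp hk] at h2
      rw [map_one, map_one] at h3
      rw [← h2, ← h3]
    · apply Subtype.ext
      apply Subtype.ext
      funext h
      obtain ⟨a, rfl⟩ := hπ h
      rw [hΦ]
      exact (hval a).symm

end gallagher

end H82.RM
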