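import Mathlib
import Cfsg.Agent.Lib.H82.RM1
import Cfsg.Agent.Lib.H19.ProjExt2

/-!
# The commutator pairing of an invariant irreducible character
-/

set_option autoImplicit false
set_option linter.unusedSectionVars false
set_option linter.style.haveILetI false

namespace H82.RM

open Cfsg H18.CharBasic H18.CharOrtho H18.CharQuot
open scoped ComplexConjugate

universe u v w

/-- invertible operators -/
abbrev UU (d : ℕ) : Type := (Module.End ℂ (Fin d → ℂ))ˣ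

/-- scalar operators -/
noncomputable def sc (d : ℕ) : ℂˣ →* UU d :=
  Units.map (algebraMap ℂ (Module.End ℂ (Fin d → ℂ))).toMonoidHom

theorem sc_coe (d : ℕ) (c : ℂˣ) : (sc d c : Module.End ℂ (Fin d → ℂ)) =
    (c : ℂ) • (1 : Module.End ℂ (Fin d → ℂ)) := by
  show algebraMap ℂ (Module.End ℂ (Fin d → ℂ)) c = _
  rw [Algebra.algebraMap_eq_smul_one]

theorem sc_comm (d : ℕ) (c : ℂˣ) (X : UU d) : sc d c * X = X * sc d c := by
  apply Units.ext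
  show (sc d c : Module.End ℂ (Fin d → ℂ)) * X = X * (sc d c : Module.End ℂ (Fin d → ℂ))
  rw [sc_coe, smul_mul_assoc, mul_smul_comm, one_mul, mul_one]

theorem sc_inj {d : ℕ} (hd : 0 < d) : Function.Injective (sc d) := by
  intro a b h
  have h1 := congrArg (fun z : UU d => (z : Module.End ℂ (Fin d → ℂ)) (fun _ => 1) ⟨0, hd⟩) h
  simp only [sc_coe] at h1
  apply Units.ext
  simpa using h1

section schur

variable {K : Type u} [Group K] [Finite K] {d : ℕ}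

theorem schur (ρ : Representation ℂ K (Fin d → ℂ)) (hρ : ρ.IsIrreducible) (X : UU d)
    (h : ∀ k, X * ρ.toHomUnits k * X⁻¹ = ρ.toHomUnits k) : ∃ c : ℂˣ, X = sc d c := by
  haveI := H19.ProjExt2.nontrivial_of_irreducible ρ hρ
  have h' : ∀ k, (X : Module.End ℂ (Fin d → ℂ)) * ρ k = ρ k * X := by
    intro k
    have h1 := h k
    rw [mul_inv_eq_iff_eq_mul] at h1
    exact congrArg (fun z : UU d => (z : Module.End ℂ (Fin d → ℂ))) h1
  let f : Representation.IntertwiningMap ρ ρ := ⟨X, fun n => h' n⟩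
  obtain ⟨c, hc⟩ := (Representation.IsIrreducible.algebraMap_intertwiningMap_bijective_of_isAlgClosed
    (ρ := ρ)).2 f
  have h2 : (X : Module.End ℂ (Fin d → ℂ)) = c • (1 : Module.End ℂ (Fin d → ℂ)) := by
    have := congrArg Representation.IntertwiningMap.toLinearMap hc
    rw [show (X : Module.End ℂ (Fin d → ℂ)) = f.toLinearMap from rfl, ← this]
    ext v
    rfl
  have hc0 : c ≠ 0 := by
    rintro rfl
    rw [zero_smul] at h2
    have h3 : (1 : Module.End ℂ (Fin d → ℂ)) = 0 := by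
      rw [← Units.mul_inv X, h2, zero_mul]
    obtain ⟨v, hv⟩ := exists_ne (0 : Fin d → ℂ)
    exact hv (by simpa using congrArg (fun f : Module.End ℂ (Fin d → ℂ) => f v) h3)
  refine ⟨Units.mk0 c hc0, ?_⟩
  apply Units.ext
  rw [sc_coe, h2]
  rfl

theorem exists_T (ρ σ : Representation ℂ K (Fin d → ℂ)) (hρ : ρ.IsIrreducible)
    (hσ : σ.IsIrreducible) (h : ρ.character = σ.character) :
    ∃ T : UU d, ∀ k, T * ρ.toHomUnits k * T⁻¹ = σ.toHomUnits k := by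
  obtain ⟨e⟩ := H19.ProjExt.equiv_of_char_eq ρ σ hρ hσ h
  refine ⟨⟨e.toLinearEquiv.toLinearMap, e.toLinearEquiv.symm.toLinearMap, ?_, ?_⟩, ?_⟩
  · apply LinearMap.ext; intro v; exact e.toLinearEquiv.apply_symm_apply v
  · apply LinearMap.ext; intro v; exact e.toLinearEquiv.symm_apply_apply v
  · intro n
    rw [mul_inv_eq_iff_eq_mul]
    apply Units.ext
    apply LinearMap.ext
    intro v
    exact Representation.IntertwiningMap.isIntertwining ρ σ e.toIntertwiningMap n v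

theorem irr_comp_equiv (a : MulAut K) (ρ : Representation ℂ K (Fin d → ℂ)) (hρ : ρ.IsIrreducible) :
    Representation.IsIrreducible (ρ.comp a.toMonoidHom : Representation ℂ K (Fin d → ℂ)) := by
  let f : Subrepresentation ρ ≃o Subrepresentation (ρ.comp a.toMonoidHom : Representation ℂ K (Fin d → ℂ)) :=
    { toFun := fun p => ⟨p.toSubmodule, fun g v hv => p.apply_mem_toSubmodule (a g) hv⟩
      invFun := fun p => ⟨p.toSubmodule, fun g v hv => by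
        have := p.apply_mem_toSubmodule (a.symm g) hv
        simpa using this⟩
      left_inv := fun p => rfl
      right_inv := fun p => rfl
      map_rel_iff' := Iff.rfl }
  exact f.isSimpleOrder_iff.1 hρ

theorem toHomUnits_comp {K₁ : Type v} [Group K₁] (ρ : Representation ℂ K (Fin d → ℂ)) (j : K₁ →* K)
    (k : K₁) : MonoidHom.toHomUnits (ρ.comp j : K₁ →* Module.End ℂ (Fin d → ℂ)) k =
      ρ.toHomUnits (j k) := Units.ext rfl

/-- `X` realizes the automorphism `a`. -/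
def IA (ρ : Representation ℂ K (Fin d → ℂ)) (a : MulAut K) (X : UU d) : Prop :=
  ∀ k, X * ρ.toHomUnits k * X⁻¹ = ρ.toHomUnits (a k)

theorem exists_IA (ρ : Representation ℂ K (Fin d → ℂ)) (hρ : ρ.IsIrreducible) (a : MulAut K)
    (h : ∀ k, ρ.character (a k) = ρ.character k) : ∃ X : UU d, IA ρ a X := by
  obtain ⟨T, hT⟩ := exists_T ρ (ρ.comp a.toMonoidHom : Representation ℂ K (Fin d → ℂ)) hρ
    (irr_comp_equiv a ρ hρ) (by
      funext k
      exact (h k).symm)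
  exact ⟨T, fun k => (hT k).trans (toHomUnits_comp ρ a.toMonoidHom k)⟩

theorem IA.mul {ρ : Representation ℂ K (Fin d → ℂ)} {a b : MulAut K} {X Y : UU d} (hX : IA ρ a X)
    (hY : IA ρ b Y) : IA ρ (a * b) (X * Y) := by
  intro k
  rw [MulAut.mul_apply, ← hX, ← hY]
  group

theorem IA.inv {ρ : Representation ℂ K (Fin d → ℂ)} {a : MulAut K} {X : UU d} (hX : IA ρ a X) :
    IA ρ a⁻¹ X⁻¹ := by
  intro k
  have h1 := hX (a⁻¹ k)
  rw [MulAut.apply_inv_self] at h1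
  rw [← h1]
  group

theorem IA_self (ρ : Representation ℂ K (Fin d → ℂ)) (k₀ : K) :
    IA ρ (MulAut.conj k₀) (ρ.toHomUnits k₀) := by
  intro k
  rw [MulAut.conj_apply, map_mul, map_mul, map_inv]

theorem IA.unique {ρ : Representation ℂ K (Fin d → ℂ)} (hρ : ρ.IsIrreducible) {a : MulAut K}
    {X Y : UU d} (hX : IA ρ a X) (hY : IA ρ a Y) : ∃ c : ℂˣ, X = sc d c * Y := by
  have h1 := hX.mul hY.inv
  rw [mul_inv_cancel] at h1
  obtain ⟨c, hc⟩ := schur ρ hρ (X * Y⁻¹) (fun k => h1 k)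
  exact ⟨c, by rw [← hc, inv_mul_cancel_right]⟩

theorem comm_scalar {d : ℕ} (s t : ℂˣ) (X Y : UU d) :
    (sc d s * X) * (sc d t * Y) * (sc d s * X)⁻¹ * (sc d t * Y)⁻¹ = X * Y * X⁻¹ * Y⁻¹ := by
  have h1 := sc_comm d s
  have h2 := sc_comm d t
  calc (sc d s * X) * (sc d t * Y) * (sc d s * X)⁻¹ * (sc d t * Y)⁻¹
      = sc d s * X * (sc d t * Y) * X⁻¹ * (sc d s)⁻¹ * Y⁻¹ * (sc d t)⁻¹ := by group
    _ = X * sc d s * (Y * sc d t) * X⁻¹ * (sc d s)⁻¹ * Y⁻¹ * (sc d t)⁻¹ := by rw [h1, h2 Y]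
    _ = X * (sc d s * (Y * (sc d t * X⁻¹))) * (sc d s)⁻¹ * Y⁻¹ * (sc d t)⁻¹ := by group
    _ = X * (Y * (sc d t * X⁻¹) * sc d s) * (sc d s)⁻¹ * Y⁻¹ * (sc d t)⁻¹ := by
        rw [h1 (Y * (sc d t * X⁻¹))]
    _ = X * Y * (sc d t * (X⁻¹ * Y⁻¹)) * (sc d t)⁻¹ := by group
    _ = X * Y * X⁻¹ * Y⁻¹ := by rw [h2 (X⁻¹ * Y⁻¹)]; group

end schur

section PR

variable {K : Type u} [Group K] [Finite K]

/-- The commutator pairing: `[X, Y] = z ρ(k)` whenever `X`, `Y` realize `a`, `b`. -/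
def PR (θ : K → ℂ) (a b : MulAut K) (k : K) (z : ℂˣ) : Prop :=
  ∀ (d : ℕ) (ρ : Representation ℂ K (Fin d → ℂ)), ρ.IsIrreducible → ρ.character = θ →
    ∀ X Y : UU d, IA ρ a X → IA ρ b Y → X * Y * X⁻¹ * Y⁻¹ = sc d z * ρ.toHomUnits k

theorem pos_of_irr {d : ℕ} (ρ : Representation ℂ K (Fin d → ℂ)) (hρ : ρ.IsIrreducible) : 0 < d := by
  rcases Nat.eq_zero_or_pos d with h | h
  · subst h
    haveI := H19.ProjExt2.nontrivial_of_irreducible ρ hρ
    exact absurd (inferInstance : Subsingleton (Fin 0 → ℂ)) (not_subsingleton _)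
  · exact h

theorem PR_of {θ : K → ℂ} {a b : MulAut K} {k : K} {z : ℂˣ} {d : ℕ}
    (ρ : Representation ℂ K (Fin d → ℂ)) (hρ : ρ.IsIrreducible) (hθ : ρ.character = θ)
    (X Y : UU d) (hX : IA ρ a X) (hY : IA ρ b Y) (h : X * Y * X⁻¹ * Y⁻¹ = sc d z * ρ.toHomUnits k) :
    PR θ a b k z := by
  intro d' σ hσ hσθ X' Y' hX' hY'
  have hdd : d' = d := by
    have h1 := congrFun (hθ.trans hσθ.symm) 1
    rw [Representation.char_one, Representation.char_one, Module.finrank_fin_fun,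
      Module.finrank_fin_fun] at h1
    exact_mod_cast h1.symm
  subst hdd
  obtain ⟨T, hT⟩ := exists_T σ ρ hσ hρ (hσθ.trans hθ.symm)
  have hT' : ∀ k, T⁻¹ * ρ.toHomUnits k * T = σ.toHomUnits k := by
    intro k; rw [← hT]; group
  have hXT : IA ρ a (T * X' * T⁻¹) := by
    intro k
    rw [← hT (a k), ← hX' k, ← hT' k]; group
  have hYT : IA ρ b (T * Y' * T⁻¹) := by
    intro k
    rw [← hT (b k), ← hY' k, ← hT' k]; group
  obtain ⟨s, hs⟩ := hXT.unique hρ hX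
  obtain ⟨t, ht⟩ := hYT.unique hρ hY
  have h1 := comm_scalar s t X Y
  rw [← hs, ← ht, h] at h1
  rw [← hT']
  have h2 : sc d' z * (T⁻¹ * ρ.toHomUnits k * T) = T⁻¹ * (sc d' z * ρ.toHomUnits k) * T := by
    rw [← mul_assoc, ← mul_assoc, sc_comm d' z T⁻¹, mul_assoc, mul_assoc, mul_assoc, mul_assoc]
  rw [h2, ← h1]
  group

theorem PR.unique {θ : K → ℂ} (hθ : IsIrrCharacter K θ) {a b : MulAut K} (ha : ∀ k, θ (a k) = θ k)
    (hb : ∀ k, θ (b k) = θ k) {k : K} {z z' : ℂˣ} (h : PR θ a b k z) (h' : PR θ a b k z') :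
    z = z' := by
  obtain ⟨d, ρ, hρ, rfl⟩ := hθ
  obtain ⟨X, hX⟩ := exists_IA ρ hρ a ha
  obtain ⟨Y, hY⟩ := exists_IA ρ hρ b hb
  have h1 := h d ρ hρ rfl X Y hX hY
  have h2 := h' d ρ hρ rfl X Y hX hY
  rw [h1] at h2
  exact sc_inj (pos_of_irr ρ hρ) (mul_right_cancel h2)

theorem PR.exists {θ : K → ℂ} (hθ : IsIrrCharacter K θ) {a b : MulAut K} (ha : ∀ k, θ (a k) = θ k)
    (hb : ∀ k, θ (b k) = θ k) {k : K} (hk : a * b * a⁻¹ * b⁻¹ = MulAut.conj k) :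
    ∃ z, PR θ a b k z := by
  obtain ⟨d, ρ, hρ, rfl⟩ := hθ
  obtain ⟨X, hX⟩ := exists_IA ρ hρ a ha
  obtain ⟨Y, hY⟩ := exists_IA ρ hρ b hb
  have h1 := ((hX.mul hY).mul hX.inv).mul hY.inv
  rw [hk] at h1
  obtain ⟨z, hz⟩ := h1.unique hρ (IA_self ρ k)
  exact ⟨z, PR_of ρ hρ rfl X Y hX hY hz⟩

theorem PR.mul_left {θ : K → ℂ} (hθ : IsIrrCharacter K θ) {a a' b : MulAut K}
    (ha : ∀ k, θ (a k) = θ k) (ha' : ∀ k, θ (a' k) = θ k) (hb : ∀ k, θ (b k) = θ k)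
    {k k' : K} {z z' : ℂˣ} (h : PR θ a b k z) (h' : PR θ a' b k' z') :
    PR θ (a * a') b (a k' * k) (z * z') := by
  obtain ⟨d, ρ, hρ, rfl⟩ := hθ
  obtain ⟨X, hX⟩ := exists_IA ρ hρ a ha
  obtain ⟨X', hX'⟩ := exists_IA ρ hρ a' ha'
  obtain ⟨Y, hY⟩ := exists_IA ρ hρ b hb
  have h1 := h d ρ hρ rfl X Y hX hY
  have h2 := h' d ρ hρ rfl X' Y hX' hY
  refine PR_of ρ hρ rfl (X * X') Y (hX.mul hX') hY ?_
  have h3 : (X * X') * Y * (X * X')⁻¹ * Y⁻¹ = X * (X' * Y * X'⁻¹ * Y⁻¹) * X⁻¹ * (X * Y * X⁻¹ * Y⁻¹) := by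
    group
  rw [h3, h1, h2]
  have h4 : X * (sc d z' * ρ.toHomUnits k') * X⁻¹ = sc d z' * ρ.toHomUnits (a k') := by
    rw [← hX k', ← mul_assoc, ← mul_assoc, ← mul_assoc, sc_comm d z' X]
  rw [h4, mul_comm z z', map_mul, map_mul]
  rw [show sc d z' * ρ.toHomUnits (a k') * (sc d z * ρ.toHomUnits k) =
    sc d z' * (ρ.toHomUnits (a k') * sc d z) * ρ.toHomUnits k by group, ← sc_comm]
  group

theorem PR.swap {θ : K → ℂ} (hθ : IsIrrCharacter K θ) {a b : MulAut K}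
    (ha : ∀ k, θ (a k) = θ k) (hb : ∀ k, θ (b k) = θ k)
    {k : K} {z : ℂˣ} (h : PR θ a b k z) : PR θ b a k⁻¹ z⁻¹ := by
  obtain ⟨d, ρ, hρ, rfl⟩ := hθ
  obtain ⟨X, hX⟩ := exists_IA ρ hρ a ha
  obtain ⟨Y, hY⟩ := exists_IA ρ hρ b hb
  have h1 := h d ρ hρ rfl X Y hX hY
  refine PR_of ρ hρ rfl Y X hY hX ?_
  have h2 : Y * X * Y⁻¹ * X⁻¹ = (X * Y * X⁻¹ * Y⁻¹)⁻¹ := by group
  rw [h2, h1, mul_inv_rev, map_inv, map_inv, ← map_inv (sc d), sc_comm]

theorem PR.self {θ : K → ℂ} (hθ : IsIrrCharacter K θ) {a : MulAut K}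
    (ha : ∀ k, θ (a k) = θ k) : PR θ a a 1 1 := by
  obtain ⟨d, ρ, hρ, rfl⟩ := hθ
  obtain ⟨X, hX⟩ := exists_IA ρ hρ a ha
  refine PR_of ρ hρ rfl X X hX hX ?_
  rw [map_one, map_one]
  group

theorem PR.conj_left {θ : K → ℂ} (hθ : IsIrrCharacter K θ) {b : MulAut K}
    (hb : ∀ k, θ (b k) = θ k) (k₀ : K) : PR θ (MulAut.conj k₀) b (k₀ * b k₀⁻¹) 1 := by
  obtain ⟨d, ρ, hρ, rfl⟩ := hθ
  obtain ⟨Y, hY⟩ := exists_IA ρ hρ b hb
  refine PR_of ρ hρ rfl (ρ.toHomUnits k₀) Y (IA_self ρ k₀) hY ?_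
  rw [map_one, one_mul, map_mul, ← hY, map_inv]
  group

theorem PR.restrict {θ : K → ℂ} {K₁ : Type v} [Group K₁] [Finite K₁] (j : K₁ →* K)
    (hθ : IsIrrCharacter K θ) (hθ₁ : IsIrrCharacter K₁ (fun k => θ (j k)))
    {a b : MulAut K} {a₁ b₁ : MulAut K₁} (haj : ∀ k, a (j k) = j (a₁ k)) (hbj : ∀ k, b (j k) = j (b₁ k))
    (ha : ∀ k, θ (a k) = θ k) (hb : ∀ k, θ (b k) = θ k) {k : K₁} {z : ℂˣ}
    (h : PR θ a b (j k) z) : PR (fun k => θ (j k)) a₁ b₁ k z := by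
  letI := Fintype.ofFinite K₁
  obtain ⟨d, ρ, hρ, rfl⟩ := hθ
  obtain ⟨X, hX⟩ := exists_IA ρ hρ a ha
  obtain ⟨Y, hY⟩ := exists_IA ρ hρ b hb
  let ρ₁ : Representation ℂ K₁ (Fin d → ℂ) := ρ.comp j
  have hρ₁ : ρ₁.IsIrreducible := by
    apply H83.Gallagher.isIrreducible_of_norm_one
    exact inner_irr_self hθ₁
  refine PR_of ρ₁ hρ₁ rfl X Y ?_ ?_ ?_
  · intro k
    rw [toHomUnits_comp ρ j, toHomUnits_comp ρ j, ← haj, hX]
  · intro k
    rw [toHomUnits_comp ρ j, toHomUnits_comp ρ j, ← hbj, hY]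
  · rw [toHomUnits_comp ρ j]
    exact h d ρ hρ rfl X Y hX hY

end PR

end H82.RM
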