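import Cfsg.Agent.Lib.H82.Det
import Cfsg.Agent.Lib.H82.Cliff
import Cfsg.Agent.Lib.H82.OrbProd

/-!
# Relative degree sets: linear characters of a normal subgroup, twists, determinants
-/

set_option autoImplicit false
set_option linter.style.haveILetI false

namespace H82.Rel

open Cfsg Representation H18.CharBasic H18.CharOrtho H18.CharInd H18.CharQuot H31.Clifford
open H82.Deg H82.Simple H82.Quot H82.Cliff H82.Det
open scoped ComplexConjugate

universe u

section lin

variable {N : Type u} [Group N]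

variable (N) in
/-- Linear characters. -/
def Lin : Type u := N →* ℂˣ

noncomputable instance : CommGroup (Lin N) := inferInstanceAs (CommGroup (N →* ℂˣ))

/-- The underlying homomorphism. -/
def Lin.hom (f : Lin N) : N →* ℂˣ := f

theorem Lin.ext {f g : Lin N} (h : ∀ n, f.hom n = g.hom n) : f = g := MonoidHom.ext h

theorem Lin.mul_hom (f g : Lin N) (n : N) : (f * g).hom n = f.hom n * g.hom n := rfl

theorem Lin.one_hom (n : N) : (1 : Lin N).hom n = 1 := rfl

theorem Lin.inv_hom (f : Lin N) (n : N) : (f⁻¹).hom n = (f.hom n)⁻¹ := rfl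

theorem Lin.pow_hom (f : Lin N) (k : ℕ) (n : N) : (f ^ k).hom n = f.hom n ^ k := by
  induction k with
  | zero => rw [pow_zero, pow_zero]; rfl
  | succ k ih => rw [pow_succ, Lin.mul_hom, ih, pow_succ]

instance [Finite N] : Finite (Lin N) := by
  have : Finite {χ : IrrCharacter N // (χ : N → ℂ) 1 = 1} := inferInstance
  exact Finite.of_equiv _ (linEquiv N)

theorem Lin.card [Finite N] : Nat.card (Lin N) = (commutator N).index := card_hom_eq_index

/-- The irreducible character of a linear character. -/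
noncomputable def lin (f : Lin N) : IrrCharacter N := ⟨fun n => (f.hom n : ℂ), isIrrCharacter_of_hom f.hom⟩

theorem lin_apply (f : Lin N) (n : N) : (lin f : N → ℂ) n = (f.hom n : ℂ) := rfl

theorem lin_injective : Function.Injective (lin : Lin N → IrrCharacter N) := by
  intro f g h
  apply Lin.ext
  intro n
  have := congrFun (congrArg Subtype.val h) n
  exact Units.ext this

theorem lin_one : lin (1 : Lin N) = triv N := by
  apply Subtype.ext
  funext n
  rfl

theorem charDegree_lin (f : Lin N) : charDegree (lin f : N → ℂ) = 1 :=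
  charDegree_eq_of (by rw [lin_apply]; simp)

/-- The twist of a character by a linear one. -/
noncomputable def tw [Finite N] (f : Lin N) (θ : IrrCharacter N) : IrrCharacter N :=
  ⟨fun n => (f.hom n : ℂ) * (θ : N → ℂ) n, isIrrCharacter_hom_mul f.hom θ.2⟩

theorem tw_apply [Finite N] (f : Lin N) (θ : IrrCharacter N) (n : N) :
    (tw f θ : N → ℂ) n = (f.hom n : ℂ) * (θ : N → ℂ) n := rfl

theorem tw_mul [Finite N] (f g : Lin N) (θ : IrrCharacter N) : tw (f * g) θ = tw f (tw g θ) := by
  apply Subtype.ext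
  funext n
  rw [tw_apply, tw_apply, tw_apply, Lin.mul_hom, Units.val_mul, mul_assoc]

theorem tw_one [Finite N] (θ : IrrCharacter N) : tw 1 θ = θ := by
  apply Subtype.ext
  funext n
  rw [tw_apply, Lin.one_hom, Units.val_one, one_mul]

theorem tw_lin [Finite N] (f g : Lin N) : tw f (lin g) = lin (f * g) := by
  apply Subtype.ext
  funext n
  rw [tw_apply, lin_apply, lin_apply, Lin.mul_hom, Units.val_mul]

theorem charDegree_tw [Finite N] (f : Lin N) (θ : IrrCharacter N) :
    charDegree (tw f θ : N → ℂ) = charDegree (θ : N → ℂ) :=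
  charDegree_eq_of (by rw [tw_apply, ← coe_charDegree' θ]; simp)

/-- The determinant of an irreducible character. -/
noncomputable def det (θ : IrrCharacter N) : Lin N := dt (θ : N → ℂ)

theorem det_tw [Finite N] (f : Lin N) (θ : IrrCharacter N) :
    det (tw f θ) = f ^ charDegree (θ : N → ℂ) * det θ := by
  apply Lin.ext
  intro n
  have h1 := dt_hom_mul f.hom (isCharacter_of_isIrr θ.2) (coe_charDegree' θ).symm
  have h2 := DFunLike.congr_fun h1 n
  rw [Lin.mul_hom, Lin.pow_hom]
  exact h2

theorem det_lin [Finite N] (f : Lin N) : det (lin f) = f := dt_hom f.hom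

theorem eq_lin_of_degree [Finite N] {θ : IrrCharacter N} (h : charDegree (θ : N → ℂ) = 1) :
    θ = lin (det θ) := by
  obtain ⟨f, hf⟩ := exists_hom_of_degree_one (isCharacter_of_isIrr θ.2) (by
    rw [← coe_charDegree' θ, h]; simp)
  let g : Lin N := f
  have h1 : θ = lin g := Subtype.ext hf
  rw [h1, det_lin]

end lin

section action

variable {G : Type u} [Group G] {N : Subgroup G} [hN : N.Normal]

/-- The action of `G` on the linear characters of a normal subgroup. -/
noncomputable instance : MulDistribMulAction G (Lin N) where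
  smul g f := cjH N g⁻¹ f
  one_smul f := by
    show cjH N 1⁻¹ f = f
    rw [inv_one]; exact cjH_one N f
  mul_smul a b f := by
    have h := cjH_cjH N b⁻¹ a⁻¹ f.hom
    rw [← mul_inv_rev] at h
    exact h.symm
  smul_mul g f f' := cjH_mul N g⁻¹ f f'
  smul_one g := cjH_one_right N g⁻¹

theorem smul_hom (g : G) (f : Lin N) (n : N) :
    (g • f).hom n = f.hom ⟨g⁻¹ * n * g⁻¹⁻¹, hN.conj_mem n n.2 g⁻¹⟩ := rfl

theorem inv_smul_eq (g : G) (f : Lin N) : g⁻¹ • f = cjH N g f := by
  show cjH N g⁻¹⁻¹ f = cjH N g f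
  rw [inv_inv]

/-- The inertia group of an irreducible character. -/
def St (θ : IrrCharacter N) : Subgroup G := inertia N (θ : N → ℂ)

theorem mem_St {θ : IrrCharacter N} {g : G} : g ∈ St θ ↔ conjFunN N g (θ : N → ℂ) = θ := Iff.rfl

theorem St_lin (f : Lin N) : St (lin f) = MulAction.stabilizer G f := by
  ext g
  rw [mem_St, MulAction.mem_stabilizer_iff]
  have h1 : conjFunN N g (lin f : N → ℂ) = (lin (g⁻¹ • f) : N → ℂ) := by
    rw [inv_smul_eq]; exact conj_lin N g f
  rw [h1]
  constructor
  · intro h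
    have h2 : g⁻¹ • f = f := lin_injective (Subtype.ext h)
    rw [inv_smul_eq_iff] at h2
    exact h2.symm
  · intro h
    have h2 : g⁻¹ • f = f := by rw [inv_smul_eq_iff]; exact h.symm
    rw [h2]

theorem inf_St_le_tw [Finite N] (f : Lin N) (θ : IrrCharacter N) :
    MulAction.stabilizer G f ⊓ St θ ≤ St (tw f θ) := by
  rintro g ⟨h1, h2⟩
  have h3 : g⁻¹ • f = f := by rw [inv_smul_eq_iff]; exact (MulAction.mem_stabilizer_iff.1 h1).symm
  rw [inv_smul_eq] at h3
  rw [mem_St]
  have h4 := conj_hom_mul N g f.hom (θ : N → ℂ)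
  have h5 : conjFunN N g (tw f θ : N → ℂ) =
      fun n => (f.hom n : ℂ) * conjFunN N g (θ : N → ℂ) n := by
    rw [show (tw f θ : N → ℂ) = fun n => (f.hom n : ℂ) * (θ : N → ℂ) n from rfl, h4]
    funext n
    have h6 : cjH N g f.hom = f.hom := h3
    rw [h6]
  rw [h5, mem_St.1 h2]
  rfl

/-- Elements of the inertia group fix the determinant. -/
theorem St_le_det [Finite G] (θ : IrrCharacter N) : St θ ≤ MulAction.stabilizer G (det θ) := by
  intro g hg
  rw [MulAction.mem_stabilizer_iff, eq_comm, ← inv_smul_eq_iff, inv_smul_eq]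
  have h1 := dt_conj N g (isCharacter_of_isIrr θ.2)
  rw [mem_St.1 hg] at h1
  exact h1.symm

/-- Twisting by an element and the intersection of inertia groups. -/
theorem St_tw_inf [Finite G] (f : Lin N) (θ : IrrCharacter N) :
    St (tw f θ) ⊓ MulAction.stabilizer G f ≤ St θ := by
  have h1 := inf_St_le_tw (G := G) f⁻¹ (tw f θ)
  rw [← tw_mul, inv_mul_cancel, tw_one, H82.OrbProd.stabilizer_inv] at h1
  rwa [inf_comm]

/-- The degree of a twist being coprime: the canonical twist. -/
theorem exists_canonical [Finite G] {a b : ℕ} (hab : a.Coprime b) (hm : ∀ f : Lin N, f ^ (a * b) = 1)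
    (θ : IrrCharacter N) (hθ : (charDegree (θ : N → ℂ)).Coprime a) :
    ∃ μ : Lin N, μ ^ a = 1 ∧ det (tw μ θ) ^ b = 1 ∧
      ∀ f : Lin N, f ^ a = 1 →
        St (tw f (tw μ θ)) = MulAction.stabilizer G f ⊓ St (tw μ θ) := by
  set d := charDegree (θ : N → ℂ) with hd
  have hcop : (d * b).Coprime a := Nat.Coprime.mul_left hθ hab.symm
  obtain ⟨x, y, hxy⟩ := (Nat.isCoprime_iff_coprime.2 hcop)
  set δ := det θ with hδ
  have hδ1 : δ ^ (a * b) = 1 := hm δ
  have hδz : ∀ t : ℤ, δ ^ ((a * b : ℕ) * t : ℤ) = 1 := by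
    intro t
    rw [zpow_mul, zpow_natCast, hδ1, one_zpow]
  have hdet1 : det (tw (δ ^ (-(b * x) : ℤ)) θ) ^ b = 1 := by
    rw [det_tw, ← hd, ← hδ]
    have h1 : (δ ^ (-(b * x) : ℤ)) ^ d * δ = δ ^ ((-(b * x) : ℤ) * d + 1) := by
      rw [zpow_add_one, zpow_mul, zpow_natCast]
    have h2 : (δ ^ ((-(b * x) : ℤ) * d + 1)) ^ b = δ ^ (((-(b * x) : ℤ) * d + 1) * b) := by
      rw [zpow_mul, zpow_natCast]
    rw [h1, h2]
    have h3 := hδz y
    rw [← h3]
    congr 1
    push_cast at hxy ⊢
    linear_combination (-(b : ℤ)) * hxy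
  refine ⟨δ ^ (-(b * x) : ℤ), ?_, ?_, ?_⟩
  · rw [← zpow_natCast, ← zpow_mul]
    have := hδz (-x)
    rw [← this]
    congr 1
    push_cast; ring
  · exact hdet1
  · set μ : Lin N := δ ^ (-(b * x) : ℤ) with hμ
    have hdet : det (tw μ θ) ^ b = 1 := hdet1
    set θ₀ := tw μ θ with hθ₀
    intro f hf
    apply le_antisymm _ (inf_St_le_tw f θ₀)
    intro g hg
    -- the determinant of `f θ₀` is fixed
    have h1 := St_le_det _ hg
    rw [det_tw, MulAction.mem_stabilizer_iff] at h1
    have hdeg : charDegree (θ₀ : N → ℂ) = d := by rw [hθ₀, charDegree_tw]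
    rw [hdeg] at h1
    have h2 : MulAction.stabilizer G (f ^ d * det θ₀) =
        MulAction.stabilizer G (f ^ d) ⊓ MulAction.stabilizer G (det θ₀) := by
      apply H82.OrbProd.stabilizer_mul_of_coprime hab
      · rw [← pow_mul, mul_comm, pow_mul, hf, one_pow]
      · exact hdet
    have h3 : g ∈ MulAction.stabilizer G (f ^ d) := by
      have : g ∈ MulAction.stabilizer G (f ^ d * det θ₀) := h1
      rw [h2] at this
      exact this.1
    -- hence `g` fixes `f`
    have h4 : g ∈ MulAction.stabilizer G f := by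
      obtain ⟨s, t, hst⟩ := (Nat.isCoprime_iff_coprime.2 hθ)
      have h5 : f = (f ^ d) ^ s := by
        have h6 : f ^ (s * d + t * a : ℤ) = f := by rw [hst, zpow_one]
        rw [zpow_add, mul_comm s, mul_comm t, zpow_mul, zpow_mul, zpow_natCast, zpow_natCast, hf,
          one_zpow, mul_one] at h6
        exact h6.symm
      rw [MulAction.mem_stabilizer_iff]
      conv_lhs => rw [h5]
      rw [smul_zpow', MulAction.mem_stabilizer_iff.1 h3, ← h5]
    exact ⟨h4, St_tw_inf f θ₀ ⟨hg, h4⟩⟩

end action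

end H82.Rel
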