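import Cfsg.Agent.Lib.H82.Rel2

/-!
# Relative degree sets: connectivity of the common divisor graph
-/

set_option autoImplicit false
set_option linter.style.haveILetI false

namespace H82.Rel

open Cfsg Representation H18.CharBasic H18.CharOrtho H18.CharInd H18.CharQuot H31.Clifford
open H82.Deg H82.Simple H82.Quot H82.Cliff H82.Det
open scoped ComplexConjugate

universe u

variable {G : Type u} [Group G] {N : Subgroup G}

/-- Reachability in the induced common divisor graph. -/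
def Conn (V : Set ℕ) (a b : ℕ) : Prop :=
  ∃ (ha : a ∈ V) (hb : b ∈ V), (commonDivisorGraph.induce V).Reachable ⟨a, ha⟩ ⟨b, hb⟩

theorem Conn.symm {V : Set ℕ} {a b : ℕ} (h : Conn V a b) : Conn V b a := by
  obtain ⟨ha, hb, h⟩ := h
  exact ⟨hb, ha, h.symm⟩

theorem Conn.trans {V : Set ℕ} {a b c : ℕ} (h : Conn V a b) (h' : Conn V b c) : Conn V a c := by
  obtain ⟨ha, hb, h⟩ := h
  obtain ⟨_, hc, h'⟩ := h'
  exact ⟨ha, hc, h.trans h'⟩

theorem adj_of {V : Set ℕ} {a b : ℕ} (ha : a ∈ V) (hb : b ∈ V) (h0 : a ≠ 0) (hne : a ≠ b)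
    (h : ¬ a.Coprime b) : (commonDivisorGraph.induce V).Adj ⟨a, ha⟩ ⟨b, hb⟩ := by
  rw [SimpleGraph.comap_adj]
  refine ⟨hne, ?_⟩
  have h1 : Nat.gcd a b ≠ 0 := Nat.gcd_ne_zero_left h0
  have h2 : Nat.gcd a b ≠ 1 := h
  show 1 < Nat.gcd a b
  omega

theorem conn_of {V : Set ℕ} {a b : ℕ} (ha : a ∈ V) (hb : b ∈ V) (h0 : a ≠ 0)
    (h : ¬ a.Coprime b) : Conn V a b := by
  by_cases hne : a = b
  · subst hne; exact ⟨ha, hb, SimpleGraph.Reachable.refl _⟩
  · exact ⟨ha, hb, (adj_of ha hb h0 hne h).reachable⟩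

theorem conn_of_dvd {V : Set ℕ} {a b u : ℕ} (ha : a ∈ V) (hb : b ∈ V) (h0 : a ≠ 0)
    (hu : u ≠ 1) (h1 : u ∣ a) (h2 : u ∣ b) : Conn V a b :=
  conn_of ha hb h0 fun h => hu (Nat.eq_one_of_dvd_coprimes h h1 h2)

theorem rel_ne_zero [Finite G] {a : ℕ} (ha : a ∈ relCharDegrees N) : a ≠ 0 := by
  obtain ⟨χ, _, rfl⟩ := ha
  exact charDegree_ne_zero χ

theorem rel_ne_one [Finite G] (hNG : N ≤ commutator G) {a : ℕ} (ha : a ∈ relCharDegrees N) :
    a ≠ 1 := by
  rintro rfl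
  obtain ⟨χ, ⟨x, hx, hne⟩, h1⟩ := ha
  obtain ⟨f, hf⟩ := exists_hom_of_degree_one (isCharacter_of_isIrr χ.2) (by
    rw [← coe_charDegree' χ, h1]; simp)
  apply hne
  rw [hf]
  show ((f x : ℂˣ) : ℂ) = ((f 1 : ℂˣ) : ℂ)
  rw [hom_commutator f (hNG hx), map_one]

theorem conn_refl {V : Set ℕ} {a : ℕ} (ha : a ∈ V) : Conn V a a :=
  ⟨ha, ha, SimpleGraph.Reachable.refl _⟩

/-- From a nontrivial invariant linear character: one of prime order. -/
theorem exists_prime_invariant [Finite G] [hN : N.Normal] {f : Lin N} (hf : ∀ g : G, g • f = f)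
    (hf1 : f ≠ 1) : ∃ (p : ℕ) (f' : Lin N), p.Prime ∧ orderOf f' = p ∧ ∀ g : G, g • f' = f' := by
  have hn : orderOf f ≠ 1 := fun h1 => hf1 (orderOf_eq_one_iff.1 h1)
  obtain ⟨p, hp, hpd⟩ := Nat.exists_prime_and_dvd hn
  refine ⟨p, f ^ (orderOf f / p), hp, orderOf_pow_orderOf_div (orderOf_pos f).ne' hpd, ?_⟩
  intro g
  rw [smul_pow', hf g]

/-- Lemma G: with an invariant linear character of order `p`, every relative degree is not coprime
to one divisible by `p`. -/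
theorem exists_not_coprime [Finite G] [hN : N.Normal] (hNG : N ≤ commutator G) {p : ℕ}
    (hp : p.Prime) {f : Lin N} (hfp : orderOf f = p) (hf : ∀ g : G, g • f = f) {a : ℕ}
    (ha : a ∈ relCharDegrees N) (hpa : ¬ p ∣ a) :
    ∃ b ∈ relCharDegrees N, p ∣ b ∧ ¬ a.Coprime b := by
  obtain ⟨θ, hθ, hov⟩ := rel_iff.1 ha
  obtain ⟨b, hb⟩ := exists_ov (tw f θ)
  obtain ⟨e, he, hfe⟩ := ov_twist hNG hf hov hb
  have hpe : p ∣ e := by
    have h1 := orderOf_dvd_of_pow_eq_one hfe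
    rw [hfp] at h1
    exact (hp.dvd_mul.1 h1).resolve_left hpa
  have hpb : p ∣ b := by rw [he]; exact hpe.mul_right _
  have hne : tw f θ ≠ triv N := by
    intro h1
    have h2 : θ = lin f⁻¹ := by
      rw [← tw_one θ, ← inv_mul_cancel f, tw_mul, h1, ← lin_one, tw_lin, mul_one]
    have h3 : ∀ g : G, g • f⁻¹ = f⁻¹ := fun g => by rw [smul_inv', hf g]
    have h4 := ov_lin_pow hNG h3 (h2 ▸ hov)
    have h5 := orderOf_dvd_of_pow_eq_one h4
    rw [orderOf_inv, hfp] at h5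
    exact hpa h5
  refine ⟨b, mem_rel hne hb, hpb, ?_⟩
  by_cases ht : (St θ).index * charDegree (θ : N → ℂ) = 1
  · have h1 : charDegree (θ : N → ℂ) = 1 := Nat.eq_one_of_mul_eq_one_left ht
    have h2 : (St θ).index = 1 := Nat.eq_one_of_mul_eq_one_right ht
    have h3 := eq_lin_of_degree h1
    set g := det θ with hg
    have h4 : ∀ k : G, k • g = g := by
      intro k
      have h5 : k ∈ St θ := by
        have := Subgroup.index_eq_one.1 h2
        rw [this]; trivial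
      exact St_le_det θ h5
    have h5 : g ^ a = 1 := ov_lin_pow hNG h4 (h3 ▸ hov)
    have h6 : (f * g) ^ b = 1 := by
      apply ov_lin_pow hNG (fun k => by rw [smul_mul', hf k, h4 k])
      rw [← tw_lin, ← h3]; exact hb
    have h7 : f ^ b = 1 := by
      rw [← orderOf_dvd_iff_pow_eq_one, hfp]; exact hpb
    rw [mul_pow, h7, one_mul] at h6
    intro hco
    have h8 : g = 1 := by
      rw [← orderOf_eq_one_iff]
      exact Nat.eq_one_of_dvd_coprimes hco (orderOf_dvd_of_pow_eq_one h5)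
        (orderOf_dvd_of_pow_eq_one h6)
    apply hθ
    rw [h3, h8, lin_one]
  · intro hco
    exact ht (Nat.eq_one_of_dvd_coprimes hco (ov_dvd hov) (by rw [he]; exact Dvd.intro_left _ rfl))

/-- Case A: a nontrivial invariant linear character makes the graph connected. -/
theorem conn_of_invariant [Finite G] [hN : N.Normal] (hNG : N ≤ commutator G) {f : Lin N}
    (hf : ∀ g : G, g • f = f) (hf1 : f ≠ 1) {a b : ℕ} (ha : a ∈ relCharDegrees N)
    (hb : b ∈ relCharDegrees N) : Conn (relCharDegrees N) a b := by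
  obtain ⟨p, f', hp, hfp, hf'⟩ := exists_prime_invariant hf hf1
  have key : ∀ a ∈ relCharDegrees N, ∃ a' ∈ relCharDegrees N, p ∣ a' ∧ Conn (relCharDegrees N) a a' := by
    intro a ha
    by_cases hpa : p ∣ a
    · exact ⟨a, ha, hpa, conn_refl ha⟩
    · obtain ⟨b, hb, hpb, hab⟩ := exists_not_coprime hNG hp hfp hf' ha hpa
      exact ⟨b, hb, hpb, conn_of ha hb (rel_ne_zero ha) hab⟩
  obtain ⟨a', ha', hpa, h1⟩ := key a ha
  obtain ⟨b', hb', hpb, h2⟩ := key b hb
  exact h1.trans ((conn_of_dvd ha' hb' (rel_ne_zero ha') hp.one_lt.ne' hpa hpb).trans h2.symm)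

/-- Types: for a relative degree `c` not divisible by `p`. -/
theorem typ [Finite G] [hN : N.Normal] (hNI : ∀ f : Lin N, (∀ g : G, g • f = f) → f = 1)
    {p : ℕ} (hp : p.Prime) {k b : ℕ} (hco : (p ^ k).Coprime b)
    (hm : ∀ f : Lin N, f ^ (p ^ k * b) = 1) {c : ℕ} (hc : c ∈ relCharDegrees N) (hpc : ¬ p ∣ c) :
    (∃ f : Lin N, f ^ p ^ k = 1 ∧ f ≠ 1 ∧ (MulAction.stabilizer G f).index ∣ c) ∨
    (∃ u : ℕ, u ≠ 1 ∧ u ∣ c ∧ ∀ f : Lin N, f ^ p ^ k = 1 → f ≠ 1 →
      ∃ x ∈ relCharDegrees N, u ∣ x ∧ (MulAction.stabilizer G f).index ∣ x) := by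
  obtain ⟨θ, hθ, hov⟩ := rel_iff.1 hc
  have hdeg : (charDegree (θ : N → ℂ)).Coprime (p ^ k) := by
    apply Nat.Coprime.pow_right
    rw [Nat.coprime_comm, Nat.Prime.coprime_iff_not_dvd hp]
    intro h1
    exact hpc (h1.trans ((Dvd.intro_left _ rfl).trans (ov_dvd hov)))
  obtain ⟨μ, hμ, hdet, hSt⟩ := exists_canonical (G := G) hco hm θ hdeg
  set θ₀ := tw μ θ with hθ₀
  have hθθ₀ : θ = tw μ⁻¹ θ₀ := by rw [hθ₀, ← tw_mul, inv_mul_cancel, tw_one]
  have hμ' : (μ⁻¹) ^ p ^ k = 1 := by rw [inv_pow, hμ, inv_one]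
  by_cases h0 : θ₀ = triv N
  · left
    have h1 : θ = lin μ⁻¹ := by rw [hθθ₀, h0, ← lin_one, tw_lin, mul_one]
    refine ⟨μ⁻¹, hμ', ?_, ?_⟩
    · intro h2; rw [h2, lin_one] at h1; exact hθ h1
    · rw [← St_lin, ← h1]
      exact (Dvd.intro _ rfl).trans (ov_dvd hov)
  · right
    refine ⟨(St θ₀).index * charDegree (θ₀ : N → ℂ), ?_, ?_, ?_⟩
    · intro h1
      have h2 : charDegree (θ₀ : N → ℂ) = 1 := Nat.eq_one_of_mul_eq_one_left h1
      have h3 : (St θ₀).index = 1 := Nat.eq_one_of_mul_eq_one_right h1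
      have h4 := eq_lin_of_degree h2
      have h5 := hNI (det θ₀) (fun g => by
        have h6 : g ∈ St θ₀ := by
          have := Subgroup.index_eq_one.1 h3
          rw [this]; trivial
        exact St_le_det θ₀ h6)
      rw [h5, lin_one] at h4
      exact h0 h4
    · have h1 := ov_dvd hov
      have h2 : St θ ≤ St θ₀ := by
        rw [hθθ₀, hSt _ hμ']; exact inf_le_right
      have h3 : charDegree (θ₀ : N → ℂ) = charDegree (θ : N → ℂ) := charDegree_tw _ _
      rw [h3]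
      exact (mul_dvd_mul_right (Subgroup.index_dvd_of_le h2) _).trans h1
    · intro f hf hf1
      obtain ⟨x, hx⟩ := exists_ov (tw f θ₀)
      have h1 := ov_dvd hx
      rw [hSt f hf, charDegree_tw] at h1
      refine ⟨x, mem_rel ?_ hx, ?_, ?_⟩
      · intro h2
        -- `θ₀ = f⁻¹` linear, both a `p`- and `p'`-element
        have h3 : θ₀ = lin f⁻¹ := by
          rw [← tw_one θ₀, ← inv_mul_cancel f, tw_mul, h2, ← lin_one, tw_lin, mul_one]
        have h4 : f⁻¹ ^ b = 1 := by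
          have h5 : det θ₀ = f⁻¹ := by rw [h3, det_lin]
          rw [← h5]; exact hdet
        have h5 : f⁻¹ ^ p ^ k = 1 := by rw [inv_pow, hf, inv_one]
        have h6 : f⁻¹ = 1 := by
          rw [← orderOf_eq_one_iff]
          exact Nat.eq_one_of_dvd_coprimes hco (orderOf_dvd_of_pow_eq_one h5)
            (orderOf_dvd_of_pow_eq_one h4)
        exact hf1 (inv_eq_one.1 h6)
      · exact (mul_dvd_mul_right (Subgroup.index_dvd_of_le inf_le_right) _).trans h1
      · exact ((Subgroup.index_dvd_of_le inf_le_left).trans (Dvd.intro _ rfl)).trans h1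

theorem lin_ne_triv {f : Lin N} (hf : f ≠ 1) : lin f ≠ triv N := by
  rw [← lin_one]
  exact fun h => hf (lin_injective h)

theorem ov_lin_dvd [Finite G] [hN : N.Normal] {f : Lin N} {d : ℕ} (h : Ov (lin f) d) :
    (MulAction.stabilizer G f).index ∣ d := by
  have := ov_dvd h
  rwa [St_lin, charDegree_lin, mul_one] at this

theorem index_ne_one [Finite G] [hN : N.Normal] (hNI : ∀ f : Lin N, (∀ g : G, g • f = f) → f = 1)
    {f : Lin N} (hf : f ≠ 1) : (MulAction.stabilizer G f).index ≠ 1 := by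
  intro h
  apply hf
  apply hNI
  intro g
  have h1 := Subgroup.index_eq_one.1 h
  have h2 : g ∈ MulAction.stabilizer G f := by rw [h1]; trivial
  exact h2

/-- R1: two relative degrees not divisible by the prime `p ∣ m`. -/
theorem conn_R1 [Finite G] [hN : N.Normal] (hNI : ∀ f : Lin N, (∀ g : G, g • f = f) → f = 1)
    {p : ℕ} (hp : p.Prime) {k b : ℕ} (hco : (p ^ k).Coprime b)
    (hm : ∀ f : Lin N, f ^ (p ^ k * b) = 1) (hex : ∃ f : Lin N, f ^ p ^ k = 1 ∧ f ≠ 1)
    {a c : ℕ} (ha : a ∈ relCharDegrees N) (hpa : ¬ p ∣ a)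
    (hc : c ∈ relCharDegrees N) (hpc : ¬ p ∣ c) : Conn (relCharDegrees N) a c := by
  haveI := Fact.mk hp
  have a0 := rel_ne_zero ha
  have c0 := rel_ne_zero hc
  rcases typ hNI hp hco hm ha hpa with ⟨f, hf, hf1, hfa⟩ | ⟨u, hu1, hua, hu⟩
  · rcases typ hNI hp hco hm hc hpc with ⟨f', hf', hf1', hfc⟩ | ⟨v, hv1, hvc, hv⟩
    · by_cases hcop : (MulAction.stabilizer G f).index.Coprime (MulAction.stabilizer G f').index
      · -- orbit product
        have h1 := H82.OrbProd.not_coprime_mul hcop (index_ne_one hNI hf1') hf'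
          (fun h => hpa (h.trans hfa))
        have h2 := H82.OrbProd.not_coprime_mul hcop.symm (index_ne_one hNI hf1) hf
          (fun h => hpc (h.trans hfc))
        rw [mul_comm] at h2
        have hne : f * f' ≠ 1 := by
          intro h3
          have h4 : f = f'⁻¹ := eq_inv_of_mul_eq_one_left h3
          rw [h4, H82.OrbProd.stabilizer_inv] at hcop
          exact index_ne_one hNI hf1' (Nat.coprime_self _ |>.1 hcop)
        obtain ⟨y, hy⟩ := exists_ov (lin (f * f'))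
        have hyr := mem_rel (lin_ne_triv hne) hy
        have hyd := ov_lin_dvd hy
        have c1 : Conn (relCharDegrees N) a y := by
          apply conn_of ha hyr a0
          intro h3
          exact h2 (Nat.Coprime.coprime_dvd_left hyd (Nat.Coprime.coprime_dvd_right hfa h3.symm))
        have c2 : Conn (relCharDegrees N) c y := by
          apply conn_of hc hyr c0
          intro h3
          exact h1 (Nat.Coprime.coprime_dvd_left hyd (Nat.Coprime.coprime_dvd_right hfc h3.symm))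
        exact c1.trans c2.symm
      · apply conn_of ha hc a0
        intro h3
        exact hcop (Nat.Coprime.coprime_dvd_left hfa (Nat.Coprime.coprime_dvd_right hfc h3))
    · obtain ⟨x, hx, hvx, hfx⟩ := hv f hf hf1
      exact (conn_of_dvd ha hx a0 (index_ne_one hNI hf1) hfa hfx).trans
        (conn_of_dvd hx hc (rel_ne_zero hx) hv1 hvx hvc)
  · rcases typ hNI hp hco hm hc hpc with ⟨f', hf', hf1', hfc⟩ | ⟨v, hv1, hvc, hv⟩
    · obtain ⟨x, hx, hvx, hfx⟩ := hu f' hf' hf1'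
      exact (conn_of_dvd ha hx a0 hu1 hua hvx).trans
        (conn_of_dvd hx hc (rel_ne_zero hx) (index_ne_one hNI hf1') hfx hfc)
    · obtain ⟨f, hf, hf1⟩ := hex
      obtain ⟨x, hx, hux, hfx⟩ := hu f hf hf1
      obtain ⟨y, hy, hvy, hfy⟩ := hv f hf hf1
      exact (conn_of_dvd ha hx a0 hu1 hua hux).trans
        ((conn_of_dvd hx hy (rel_ne_zero hx) (index_ne_one hNI hf1) hfx hfy).trans
          (conn_of_dvd hy hc (rel_ne_zero hy) hv1 hvy hvc))

/-- From a type statement: a linear character of `p`-power order and a near degree. -/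
theorem typ' [Finite G] [hN : N.Normal] (hNI : ∀ f : Lin N, (∀ g : G, g • f = f) → f = 1)
    {p : ℕ} (hp : p.Prime) {k b : ℕ} (hco : (p ^ k).Coprime b)
    (hm : ∀ f : Lin N, f ^ (p ^ k * b) = 1) (hex : ∃ f : Lin N, f ^ p ^ k = 1 ∧ f ≠ 1)
    {c : ℕ} (hc : c ∈ relCharDegrees N) (hpc : ¬ p ∣ c) :
    ∃ f : Lin N, f ^ p ^ k = 1 ∧ f ≠ 1 ∧ ∃ x ∈ relCharDegrees N,
      Conn (relCharDegrees N) c x ∧ (MulAction.stabilizer G f).index ∣ x := by
  rcases typ hNI hp hco hm hc hpc with ⟨f, hf, hf1, hfa⟩ | ⟨u, hu1, hua, hu⟩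
  · exact ⟨f, hf, hf1, c, hc, conn_refl hc, hfa⟩
  · obtain ⟨f, hf, hf1⟩ := hex
    obtain ⟨x, hx, hux, hfx⟩ := hu f hf hf1
    exact ⟨f, hf, hf1, x, hx, conn_of_dvd hc hx (rel_ne_zero hc) hu1 hua hux, hfx⟩

/-- R2: two distinct primes. -/
theorem conn_R2 [Finite G] [hN : N.Normal] (hNI : ∀ f : Lin N, (∀ g : G, g • f = f) → f = 1)
    {p q : ℕ} (hp : p.Prime) (hq : q.Prime) (hpq : p ≠ q) {k b k' b' : ℕ}
    (hco : (p ^ k).Coprime b) (hm : ∀ f : Lin N, f ^ (p ^ k * b) = 1)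
    (hex : ∃ f : Lin N, f ^ p ^ k = 1 ∧ f ≠ 1)
    (hco' : (q ^ k').Coprime b') (hm' : ∀ f : Lin N, f ^ (q ^ k' * b') = 1)
    (hex' : ∃ f : Lin N, f ^ q ^ k' = 1 ∧ f ≠ 1)
    {a c : ℕ} (ha : a ∈ relCharDegrees N) (hpa : ¬ p ∣ a)
    (hc : c ∈ relCharDegrees N) (hqc : ¬ q ∣ c) : Conn (relCharDegrees N) a c := by
  obtain ⟨f, hf, hf1, x, hx, hax, hfx⟩ := typ' hNI hp hco hm hex ha hpa
  obtain ⟨f', hf', hf1', y, hy, hcy, hfy⟩ := typ' hNI hq hco' hm' hex' hc hqc
  have hcop : (p ^ k).Coprime (q ^ k') := Nat.Coprime.pow _ _ ((Nat.coprime_primes hp hq).2 hpq)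
  have hst := H82.OrbProd.stabilizer_mul_of_coprime (G := G) hcop hf hf'
  have hne : f * f' ≠ 1 := by
    intro h3
    have h4 : f = f'⁻¹ := eq_inv_of_mul_eq_one_left h3
    have h5 : f ^ q ^ k' = 1 := by rw [h4, inv_pow, hf', inv_one]
    apply hf1
    rw [← orderOf_eq_one_iff]
    exact Nat.eq_one_of_dvd_coprimes hcop (orderOf_dvd_of_pow_eq_one hf)
      (orderOf_dvd_of_pow_eq_one h5)
  obtain ⟨z, hz⟩ := exists_ov (lin (f * f'))
  have hzr := mem_rel (lin_ne_triv hne) hz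
  have hzd := ov_lin_dvd hz
  rw [hst] at hzd
  have h1 := (Subgroup.index_dvd_of_le (inf_le_left (a := MulAction.stabilizer G f)
    (b := MulAction.stabilizer G f'))).trans hzd
  have h2 := (Subgroup.index_dvd_of_le (inf_le_right (a := MulAction.stabilizer G f)
    (b := MulAction.stabilizer G f'))).trans hzd
  exact hax.trans ((conn_of_dvd hx hzr (rel_ne_zero hx) (index_ne_one hNI hf1) hfx h1).trans
    ((conn_of_dvd hzr hy (rel_ne_zero hzr) (index_ne_one hNI hf1') h2 hfy).trans hcy.symm))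

end H82.Rel
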