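import Cfsg.Agent.Lib.H82.Rel3

/-!
# Relative degree sets: at most two components
-/

set_option autoImplicit false
set_option linter.style.haveILetI false

namespace H82.Rel

open Cfsg Representation H18.CharBasic H18.CharOrtho H18.CharInd H18.CharQuot H31.Clifford
open H82.Deg H82.Simple H82.Quot H82.Cliff H82.Det
open scoped ComplexConjugate

universe u

variable {G : Type u} [Group G] {N : Subgroup G}

/-- The index of the derived subgroup is the number of linear characters. -/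
theorem relIndex_eq [Finite G] : ⁅N, N⁆.relIndex N = Nat.card (Lin N) := by
  rw [Lin.card, Subgroup.relIndex]
  congr 1
  have h1 : ⁅N, N⁆ = (commutator N).map N.subtype := by
    rw [_root_.commutator_def, Subgroup.map_commutator, ← MonoidHom.range_eq_map, Subgroup.range_subtype]
  rw [h1, Subgroup.subgroupOf, Subgroup.comap_map_eq_self_of_injective N.subtype_injective]

theorem pow_card_lin [Finite G] (f : Lin N) : f ^ Nat.card (Lin N) = 1 := pow_card_eq_one'

/-- The data for a prime divisor of the number of linear characters. -/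
theorem prime_data [Finite G] {p : ℕ} (hp : p.Prime) (hpm : p ∣ Nat.card (Lin N)) :
    ∃ k b : ℕ, (p ^ k).Coprime b ∧ (∀ f : Lin N, f ^ (p ^ k * b) = 1) ∧
      (∃ f : Lin N, f ^ p ^ k = 1 ∧ f ≠ 1) ∧ Nat.card (Lin N) = p ^ k * b := by
  have hm0 : Nat.card (Lin N) ≠ 0 := Nat.card_pos.ne'
  refine ⟨(Nat.card (Lin N)).factorization p, Nat.card (Lin N) / p ^ (Nat.card (Lin N)).factorization p,
    ?_, ?_, ?_, ?_⟩
  · exact Nat.Coprime.pow_left _ (Nat.coprime_ordCompl hp hm0)
  · intro f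
    rw [Nat.ordProj_mul_ordCompl_eq_self]
    exact pow_card_lin f
  · haveI := Fact.mk hp
    obtain ⟨f, hf⟩ := exists_prime_orderOf_dvd_card' p hpm
    refine ⟨f, ?_, ?_⟩
    · rw [← orderOf_dvd_iff_pow_eq_one, hf]
      exact dvd_pow_self p ((hp.dvd_iff_one_le_factorization hm0).1 hpm |> Nat.one_le_iff_ne_zero.1)
    · rintro rfl
      rw [orderOf_one] at hf
      exact hp.one_lt.ne hf
  · rw [Nat.ordProj_mul_ordCompl_eq_self]

/-- Degrees missing some prime divisor of `m` are in one component. -/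
theorem conn_of_missing [Finite G] [hN : N.Normal] (hNG : N ≤ commutator G) {p q : ℕ}
    (hp : p.Prime) (hpm : p ∣ Nat.card (Lin N)) (hq : q.Prime) (hqm : q ∣ Nat.card (Lin N))
    {a c : ℕ} (ha : a ∈ relCharDegrees N) (hpa : ¬ p ∣ a)
    (hc : c ∈ relCharDegrees N) (hqc : ¬ q ∣ c) : Conn (relCharDegrees N) a c := by
  by_cases hNI : ∀ f : Lin N, (∀ g : G, g • f = f) → f = 1
  · obtain ⟨k, b, hco, hm, hex, _⟩ := prime_data hp hpm
    by_cases hpq : p = q
    · subst hpq
      exact conn_R1 hNI hp hco hm hex ha hpa hc hqc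
    · obtain ⟨k', b', hco', hm', hex', _⟩ := prime_data hq hqm
      exact conn_R2 hNI hp hq hpq hco hm hex hco' hm' hex' ha hpa hc hqc
  · push Not at hNI
    obtain ⟨f, hf, hf1⟩ := hNI
    exact conn_of_invariant hNG hf hf1 ha hc

theorem not_conn_cases [Finite G] [hN : N.Normal] (hNG : N ≤ commutator G)
    (hm : Nat.card (Lin N) ≠ 1) {a b : ℕ} (ha : a ∈ relCharDegrees N) (hb : b ∈ relCharDegrees N)
    (h : ¬ Conn (relCharDegrees N) a b) :
    (a.Coprime (Nat.card (Lin N)) ∧ ∀ r : ℕ, r.Prime → r ∣ Nat.card (Lin N) → r ∣ b) ∨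
    (b.Coprime (Nat.card (Lin N)) ∧ ∀ r : ℕ, r.Prime → r ∣ Nat.card (Lin N) → r ∣ a) := by
  have key : ∀ {a b : ℕ}, a ∈ relCharDegrees N → b ∈ relCharDegrees N →
      ¬ Conn (relCharDegrees N) a b → (∀ r : ℕ, r.Prime → r ∣ Nat.card (Lin N) → r ∣ b) →
      a.Coprime (Nat.card (Lin N)) := by
    intro a b ha hb h hr
    apply Nat.coprime_of_dvd
    intro r hr' hra hrm
    exact h (conn_of_dvd ha hb (rel_ne_zero ha) hr'.one_lt.ne' hra (hr r hr' hrm))
  by_cases h1 : ∀ r : ℕ, r.Prime → r ∣ Nat.card (Lin N) → r ∣ b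
  · exact Or.inl ⟨key ha hb h h1, h1⟩
  · by_cases h2 : ∀ r : ℕ, r.Prime → r ∣ Nat.card (Lin N) → r ∣ a
    · exact Or.inr ⟨key hb ha (fun h3 => h h3.symm) h2, h2⟩
    · exfalso
      push Not at h1 h2
      obtain ⟨q, hq, hqm, hqb⟩ := h1
      obtain ⟨p, hp, hpm, hpa⟩ := h2
      exact h (conn_of_missing hNG hp hpm hq hqm ha hpa hb hqb)

/-- Among three relative degrees two are connected. -/
theorem three [Finite G] [hN : N.Normal] (hNG : N ≤ commutator G)
    (hm : Nat.card (Lin N) ≠ 1) {a b c : ℕ} (ha : a ∈ relCharDegrees N) (hb : b ∈ relCharDegrees N)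
    (hc : c ∈ relCharDegrees N) :
    Conn (relCharDegrees N) a b ∨ Conn (relCharDegrees N) a c ∨ Conn (relCharDegrees N) b c := by
  obtain ⟨p, hp, hpm⟩ := Nat.exists_prime_and_dvd hm
  have key : ∀ {a b : ℕ}, a ∈ relCharDegrees N → b ∈ relCharDegrees N →
      ((∀ r : ℕ, r.Prime → r ∣ Nat.card (Lin N) → r ∣ a) ↔
        (∀ r : ℕ, r.Prime → r ∣ Nat.card (Lin N) → r ∣ b)) → Conn (relCharDegrees N) a b := by
    intro a b ha hb hiff
    by_cases h1 : ∀ r : ℕ, r.Prime → r ∣ Nat.card (Lin N) → r ∣ a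
    · exact conn_of_dvd ha hb (rel_ne_zero ha) hp.one_lt.ne' (h1 p hp hpm) (hiff.1 h1 p hp hpm)
    · have h2 : ¬ ∀ r : ℕ, r.Prime → r ∣ Nat.card (Lin N) → r ∣ b := fun h3 => h1 (hiff.2 h3)
      push Not at h1 h2
      obtain ⟨q, hq, hqm, hqa⟩ := h1
      obtain ⟨r, hr, hrm, hrb⟩ := h2
      exact conn_of_missing hNG hq hqm hr hrm ha hqa hb hrb
  by_cases h1 : ∀ r : ℕ, r.Prime → r ∣ Nat.card (Lin N) → r ∣ a
  · by_cases h2 : ∀ r : ℕ, r.Prime → r ∣ Nat.card (Lin N) → r ∣ b
    · exact Or.inl (key ha hb (iff_of_true h1 h2))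
    · by_cases h3 : ∀ r : ℕ, r.Prime → r ∣ Nat.card (Lin N) → r ∣ c
      · exact Or.inr (Or.inl (key ha hc (iff_of_true h1 h3)))
      · exact Or.inr (Or.inr (key hb hc (iff_of_false h2 h3)))
  · by_cases h2 : ∀ r : ℕ, r.Prime → r ∣ Nat.card (Lin N) → r ∣ b
    · by_cases h3 : ∀ r : ℕ, r.Prime → r ∣ Nat.card (Lin N) → r ∣ c
      · exact Or.inr (Or.inr (key hb hc (iff_of_true h2 h3)))
      · exact Or.inr (Or.inl (key ha hc (iff_of_false h1 h3)))
    · exact Or.inl (key ha hb (iff_of_false h1 h2))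

/-- A graph in which among three vertices two are connected has at most two components. -/
theorem card_components_le {V : Type*} (Γ : SimpleGraph V)
    (h : ∀ a b c : V, Γ.Reachable a b ∨ Γ.Reachable a c ∨ Γ.Reachable b c) :
    Nat.card Γ.ConnectedComponent ≤ 2 := by
  classical
  by_contra hcon
  push Not at hcon
  haveI : Finite Γ.ConnectedComponent := Nat.finite_of_card_ne_zero (by omega)
  letI := Fintype.ofFinite Γ.ConnectedComponent
  rw [Nat.card_eq_fintype_card, ← Finset.card_univ, Finset.two_lt_card_iff] at hcon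
  obtain ⟨x, y, z, _, _, _, hxy, hxz, hyz⟩ := hcon
  induction x using SimpleGraph.ConnectedComponent.ind with
  | _ a =>
  induction y using SimpleGraph.ConnectedComponent.ind with
  | _ b =>
  induction z using SimpleGraph.ConnectedComponent.ind with
  | _ c =>
  rcases h a b c with h1 | h1 | h1
  · exact hxy (SimpleGraph.ConnectedComponent.eq.2 h1)
  · exact hxz (SimpleGraph.ConnectedComponent.eq.2 h1)
  · exact hyz (SimpleGraph.ConnectedComponent.eq.2 h1)

theorem card_lin_ne_one [Finite G] (hN : ⁅N, N⁆ < N) : Nat.card (Lin N) ≠ 1 := by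
  rw [← relIndex_eq]
  intro h
  rw [Subgroup.relIndex_eq_one] at h
  exact absurd hN (not_lt_of_ge h)

end H82.Rel
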