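import Cfsg.Agent.Lib.H82.Rel4

/-!
# The degree graph of a solvable group has at most two components
-/

set_option autoImplicit false
set_option linter.style.haveILetI false

namespace H82.Rel

open Cfsg Representation H18.CharBasic H18.CharOrtho H18.CharInd H18.CharQuot H31.Clifford
open H82.Deg H82.Simple H82.Quot H82.Cliff H82.Det
open scoped ComplexConjugate

universe u

variable {G : Type u} [Group G]

/-- The nonlinear degrees are the relative degrees of the derived subgroup. -/
theorem mem_rel_commutator [Finite G] {d : ℕ} :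
    d ∈ relCharDegrees (commutator G) ↔ d ∈ charDegrees G ∧ d ≠ 1 := by
  constructor
  · intro h
    refine ⟨?_, rel_ne_one le_rfl h⟩
    obtain ⟨χ, _, h1⟩ := h
    exact ⟨χ, h1⟩
  · rintro ⟨⟨χ, rfl⟩, hne⟩
    by_contra hcon
    apply hne
    have h1 : Over (commutator G) χ := by
      intro x hx
      by_contra h2
      exact hcon ⟨χ, ⟨x, hx, h2⟩, rfl⟩
    rw [← charDegree_deflate (commutator G) χ h1]
    apply charDegree_eq_of
    rw [Nat.cast_one]
    apply degree_one_of_comm (G := G ⧸ commutator G)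
    · intro a b
      exact mul_comm (G := Abelianization G) a b
    · exact isIrrCharacter_deflate (commutator G) χ.2 h1

theorem reach_of_dvd {p q a : ℕ} (hp : p.Prime) (hq : q.Prime) (ha : a ∈ charDegrees G)
    (hpa : p ∣ a) (hqa : q ∣ a) (hp' : p ∈ degreePrimes G) (hq' : q ∈ degreePrimes G) :
    ((degreeGraph G).induce (degreePrimes G)).Reachable ⟨p, hp'⟩ ⟨q, hq'⟩ := by
  by_cases hpq : p = q
  · subst hpq; exact SimpleGraph.Reachable.refl _
  · apply SimpleGraph.Adj.reachable
    rw [SimpleGraph.comap_adj]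
    exact ⟨hpq, hp, hq, a, ha, ((Nat.coprime_primes hp hq).2 hpq).mul_dvd_of_dvd_of_dvd hpa hqa⟩

theorem reach_of_walk [Finite G] {a b : relCharDegrees (commutator G)}
    (w : (commonDivisorGraph.induce (relCharDegrees (commutator G))).Walk a b) :
    ∀ {p q : ℕ} (hp : p ∈ degreePrimes G) (hq : q ∈ degreePrimes G), p ∣ a.1 → q ∣ b.1 →
      ((degreeGraph G).induce (degreePrimes G)).Reachable ⟨p, hp⟩ ⟨q, hq⟩ := by
  induction w with
  | @nil u =>
    intro p q hp hq hpa hqb
    exact reach_of_dvd hp.1 hq.1 (mem_rel_commutator.1 u.2).1 hpa hqb hp hq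
  | @cons u v w h _ ih =>
    intro p q hp hq hpa hqb
    rw [SimpleGraph.comap_adj] at h
    obtain ⟨r, hr, hrd⟩ := Nat.exists_prime_and_dvd (n := Nat.gcd u.1 v.1) (by
      have : 1 < Nat.gcd u.1 v.1 := h.2
      omega)
    have hr' : r ∈ degreePrimes G :=
      ⟨hr, u.1, (mem_rel_commutator.1 u.2).1, hrd.trans (Nat.gcd_dvd_left _ _)⟩
    exact (reach_of_dvd hp.1 hr (mem_rel_commutator.1 u.2).1 hpa (hrd.trans (Nat.gcd_dvd_left _ _))
      hp hr').trans (ih hr' hq (hrd.trans (Nat.gcd_dvd_right _ _)) hqb)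

theorem solvable_card_lin [Finite G] [Group.IsSolvable G] (h : commutator G ≠ ⊥) :
    Nat.card (Lin (commutator G)) ≠ 1 :=
  card_lin_ne_one (Group.IsSolvable.commutator_lt_of_ne_bot h)

theorem commutator_ne_bot_of_rel [Finite G] {d : ℕ} (h : d ∈ relCharDegrees (commutator G)) :
    commutator G ≠ ⊥ := by
  intro h1
  obtain ⟨χ, ⟨x, hx, hne⟩, _⟩ := h
  rw [h1, Subgroup.mem_bot] at hx
  exact hne (by rw [hx])

/-- The degree graph of a solvable group has at most two connected components. -/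
theorem card_degree_components [Finite G] [Group.IsSolvable G] :
    Nat.card ((degreeGraph G).induce (degreePrimes G)).ConnectedComponent ≤ 2 := by
  apply card_components_le
  rintro ⟨p, hp⟩ ⟨q, hq⟩ ⟨r, hr⟩
  obtain ⟨hp0, a, ha, hpa⟩ := hp
  obtain ⟨hq0, b, hb, hqb⟩ := hq
  obtain ⟨hr0, c, hc, hrc⟩ := hr
  have key : ∀ {p a : ℕ}, p.Prime → p ∣ a → a ∈ charDegrees G → a ∈ relCharDegrees (commutator G) := by
    intro p a hp hpa ha
    rw [mem_rel_commutator]
    refine ⟨ha, ?_⟩
    rintro rfl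
    exact hp.one_lt.ne' (Nat.dvd_one.1 hpa)
  have ha' := key hp0 hpa ha
  have hb' := key hq0 hqb hb
  have hc' := key hr0 hrc hc
  have hm := solvable_card_lin (commutator_ne_bot_of_rel ha')
  rcases three le_rfl hm ha' hb' hc' with h | h | h
  · obtain ⟨_, _, ⟨w⟩⟩ := h
    exact Or.inl (reach_of_walk w _ _ hpa hqb)
  · obtain ⟨_, _, ⟨w⟩⟩ := h
    exact Or.inr (Or.inl (reach_of_walk w _ _ hpa hrc))
  · obtain ⟨_, _, ⟨w⟩⟩ := h
    exact Or.inr (Or.inr (reach_of_walk w _ _ hqb hrc))

end H82.Rel
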