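import Cfsg.Agent.Lib.H82.AbRes
import Cfsg.Agent.Lib.H82.Gagola2

/-!
# The shape of the components of a disconnected relative degree graph
-/

set_option autoImplicit false
set_option linter.style.haveILetI false

namespace H82.Rel

open Cfsg H18.CharBasic H18.CharOrtho H18.CharInd H18.CharQuot H31.Clifford
open H82.Deg H82.Simple H82.Quot H82.Cliff H82.Det
open scoped ComplexConjugate

universe u

section common

variable {X : Type u} [Group X]

/-- A character over `K ≥ X'` is linear. -/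
theorem degree_of_over [Finite X] (K : Subgroup X) [K.Normal] (hK : commutator X ≤ K)
    (ψ : IrrCharacter X) (h : Over K ψ) : charDegree (ψ : X → ℂ) = 1 := by
  rw [← charDegree_deflate K ψ h]
  apply charDegree_eq_of
  rw [Nat.cast_one]
  exact degree_one_of_comm (H82.AbRes.quot_comm K hK) (isIrrCharacter_deflate K ψ.2 h)

/-- A prime dividing the degrees coprime to `|X : X'|` unless some multiple is not coprime. -/
theorem common_prime [Finite X] (hX : ⁅commutator X, commutator X⁆ < commutator X) :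
    ∃ r : ℕ, r.Prime ∧ ∀ θ : IrrCharacter X,
      (charDegree (θ : X → ℂ)).Coprime (commutator X).index → ¬ r ∣ charDegree (θ : X → ℂ) →
      ∃ ψ : IrrCharacter X, charDegree (θ : X → ℂ) ∣ charDegree (ψ : X → ℂ) ∧
        ¬ (charDegree (ψ : X → ℂ)).Coprime (commutator X).index := by
  classical
  obtain ⟨r, L, hr, hLn, hDL, hLK, n, hn⟩ := H82.AbRes.exists_L (commutator X) hX
  refine ⟨r, hr, fun θ hco hrθ => ?_⟩
  set K := commutator X with hK
  have h1 := H82.AbRes.restrict_irr K le_rfl θ.2 hco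
  -- restriction to `L`
  haveI : (L.subgroupOf K).Normal := hLn.subgroupOf K
  have h2 : commutator K ≤ L.subgroupOf K := by
    rw [Subgroup.subgroupOf, ← Subgroup.map_le_iff_le_comap, Subgroup.map_subtype_commutator]
    exact hDL
  have hdeg : charDegree (fun k : K => (θ : X → ℂ) k) = charDegree (θ : X → ℂ) :=
    charDegree_eq_of (coe_charDegree' θ).symm
  have h3 := H82.AbRes.restrict_irr (L.subgroupOf K) h2 h1 (by
    rw [hdeg]
    have : (L.subgroupOf K).index = r ^ n := hn
    rw [this]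
    exact Nat.Coprime.pow_right _ ((Nat.Prime.coprime_iff_not_dvd hr).2 hrθ).symm)
  have h4 : IsIrrCharacter L (fun l : L => (θ : X → ℂ) l) := by
    rw [isIrrCharacter_mulEquiv (Subgroup.subgroupOfEquivOfLe hLK.le)]
    exact h3
  -- a nonlinear character over `L`
  have h5 : ∃ σ : IrrCharacter X, Over L σ ∧ charDegree (σ : X → ℂ) ≠ 1 := by
    by_contra hcon
    push Not at hcon
    apply not_le_of_gt hLK
    intro g hg
    apply H82.Gagola.mem_of_over L
    intro ψ hψ
    obtain ⟨f, hf⟩ := exists_hom_of_degree_one (isCharacter_of_isIrr ψ.2) (by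
      rw [← coe_charDegree' ψ, hcon ψ hψ]; simp)
    rw [hf]
    have h6 : f g = 1 := by
      have h7 : commutator X ≤ f.ker := Abelianization.commutator_subset_ker f
      exact h7 hg
    simp only [h6, map_one]
  obtain ⟨σ, hσ, hσ1⟩ := h5
  let ψ : IrrCharacter X := ⟨_, H83.Gallagher.isIrr_mul θ.2 L h4 σ.2 hσ⟩
  have h6 : charDegree (ψ : X → ℂ) = charDegree (σ : X → ℂ) * charDegree (θ : X → ℂ) := by
    apply charDegree_eq_of
    push_cast
    rw [coe_charDegree' σ, coe_charDegree' θ]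
  refine ⟨ψ, ⟨_, h6.trans (mul_comm _ _)⟩, ?_⟩
  intro hcop
  rw [h6] at hcop
  have h7 : (charDegree (σ : X → ℂ)).Coprime K.index := Nat.Coprime.coprime_mul_right hcop
  have h8 := H82.AbRes.restrict_irr K le_rfl σ.2 h7
  apply hσ1
  have h9 := degree_of_over (L.subgroupOf K) h2 ⟨_, h8⟩ (fun k hk => hσ _ hk)
  rw [← h9]
  symm
  exact charDegree_eq_of (coe_charDegree' σ).symm

end common

section near

variable {G : Type u} [Group G] {N : Subgroup G}

/-- Near: not coprime, or with a common non-coprime member. -/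
def Near (V : Set ℕ) (a c : ℕ) : Prop := ¬ a.Coprime c ∨ ∃ x ∈ V, ¬ a.Coprime x ∧ ¬ x.Coprime c

theorem Near.symm {V : Set ℕ} {a c : ℕ} (h : Near V a c) : Near V c a := by
  rcases h with h | ⟨x, hx, h1, h2⟩
  · exact Or.inl fun h1 => h h1.symm
  · exact Or.inr ⟨x, hx, fun h3 => h2 h3.symm, fun h3 => h1 h3.symm⟩

theorem near_of_dvd {V : Set ℕ} {a c x u v : ℕ} (hx : x ∈ V) (hu : u ≠ 1) (hv : v ≠ 1)
    (hua : u ∣ a) (hux : u ∣ x) (hvx : v ∣ x) (hvc : v ∣ c) : Near V a c :=
  Or.inr ⟨x, hx, fun h => hu (Nat.eq_one_of_dvd_coprimes h hua hux),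
    fun h => hv (Nat.eq_one_of_dvd_coprimes h hvx hvc)⟩

theorem near_lin [Finite G] [hN : N.Normal] (hNI : ∀ f : Lin N, (∀ g : G, g • f = f) → f = 1)
    {b c : ℕ} (hb : b.Coprime (Nat.card (Lin N))) (hc : c.Coprime (Nat.card (Lin N)))
    {f f' : Lin N} (hf : f ≠ 1) (hf' : f' ≠ 1)
    (hfb : (MulAction.stabilizer G f).index ∣ b) (hfc : (MulAction.stabilizer G f').index ∣ c) :
    Near (relCharDegrees N) b c := by
  -- reduce to prime orders
  have red : ∀ {f : Lin N} {b : ℕ}, f ≠ 1 → (MulAction.stabilizer G f).index ∣ b →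
      ∃ (p : ℕ) (f₁ : Lin N), p.Prime ∧ p ∣ Nat.card (Lin N) ∧ f₁ ≠ 1 ∧ f₁ ^ p = 1 ∧
        (MulAction.stabilizer G f₁).index ∣ b := by
    intro f b hf hfb
    have hn : orderOf f ≠ 1 := fun h1 => hf (orderOf_eq_one_iff.1 h1)
    obtain ⟨p, hp, hpd⟩ := Nat.exists_prime_and_dvd hn
    have h1 : orderOf (f ^ (orderOf f / p)) = p := orderOf_pow_orderOf_div (orderOf_pos f).ne' hpd
    refine ⟨p, f ^ (orderOf f / p), hp, hpd.trans (orderOf_dvd_natCard f), ?_, ?_, ?_⟩
    · intro h2
      rw [h2, orderOf_one] at h1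
      exact hp.one_lt.ne h1
    · have := pow_orderOf_eq_one (f ^ (orderOf f / p))
      rwa [h1] at this
    · exact (Subgroup.index_dvd_of_le (H82.OrbProd.stabilizer_pow_le f _)).trans hfb
  obtain ⟨p, f₁, hp, hpm, hf₁, hf₁p, hf₁b⟩ := red hf hfb
  obtain ⟨q, f₂, hq, hqm, hf₂, hf₂q, hf₂c⟩ := red hf' hfc
  have hpb : ¬ p ∣ b := fun h => hp.one_lt.ne' (Nat.eq_one_of_dvd_coprimes hb h hpm)
  have hqc : ¬ q ∣ c := fun h => hq.one_lt.ne' (Nat.eq_one_of_dvd_coprimes hc h hqm)
  by_cases hcop : (MulAction.stabilizer G f₁).index.Coprime (MulAction.stabilizer G f₂).index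
  swap
  · left
    intro h3
    exact hcop (Nat.Coprime.coprime_dvd_left hf₁b (Nat.Coprime.coprime_dvd_right hf₂c h3))
  have hne : f₁ * f₂ ≠ 1 := by
    intro h3
    have h4 : f₁ = f₂⁻¹ := eq_inv_of_mul_eq_one_left h3
    rw [h4, H82.OrbProd.stabilizer_inv] at hcop
    exact index_ne_one hNI hf₂ (Nat.coprime_self _ |>.1 hcop)
  obtain ⟨y, hy⟩ := exists_ov (lin (f₁ * f₂))
  have hyr := mem_rel (lin_ne_triv hne) hy
  have hyd := ov_lin_dvd hy
  by_cases hpq : p = q
  · subst hpq
    haveI := Fact.mk hp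
    have h1 := H82.OrbProd.not_coprime_mul hcop (index_ne_one hNI hf₂) (k := 1) (p := p)
      (by rwa [pow_one]) (fun h => hpb (h.trans hf₁b))
    have h2 := H82.OrbProd.not_coprime_mul hcop.symm (index_ne_one hNI hf₁) (k := 1) (p := p)
      (by rwa [pow_one]) (fun h => hqc (h.trans hf₂c))
    rw [mul_comm] at h2
    refine Or.inr ⟨y, hyr, ?_, ?_⟩
    · intro h3
      exact h2 (Nat.Coprime.coprime_dvd_left hyd (Nat.Coprime.coprime_dvd_right hf₁b h3.symm))
    · intro h3
      exact h1 (Nat.Coprime.coprime_dvd_left hyd (Nat.Coprime.coprime_dvd_right hf₂c h3))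
  · have hst := H82.OrbProd.stabilizer_mul_of_coprime (G := G) ((Nat.coprime_primes hp hq).2 hpq)
      hf₁p hf₂q
    rw [hst] at hyd
    have h1 := (Subgroup.index_dvd_of_le (inf_le_left (a := MulAction.stabilizer G f₁)
      (b := MulAction.stabilizer G f₂))).trans hyd
    have h2 := (Subgroup.index_dvd_of_le (inf_le_right (a := MulAction.stabilizer G f₁)
      (b := MulAction.stabilizer G f₂))).trans hyd
    exact near_of_dvd hyr (index_ne_one hNI hf₁) (index_ne_one hNI hf₂) hf₁b h1 h2 hf₂c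

/-- The types of the members coprime to `m`. -/
theorem typ_coprime [Finite G] [hN : N.Normal] {b : ℕ} (hb : b ∈ relCharDegrees N)
    (hbm : b.Coprime (Nat.card (Lin N))) :
    (∃ f : Lin N, f ≠ 1 ∧ (MulAction.stabilizer G f).index ∣ b) ∨
    (∃ θ : IrrCharacter N, charDegree (θ : N → ℂ) ≠ 1 ∧ charDegree (θ : N → ℂ) ∣ b ∧
      ∀ f : Lin N, St (tw f θ) = MulAction.stabilizer G f ⊓ St θ) := by
  obtain ⟨θ, hθ, hov⟩ := rel_iff.1 hb
  have hd := ov_dvd hov
  have hθb : charDegree (θ : N → ℂ) ∣ b := (Dvd.intro_left _ rfl).trans hd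
  have hStb : (St θ).index ∣ b := (Dvd.intro _ rfl).trans hd
  have hco : (charDegree (θ : N → ℂ)).Coprime (Nat.card (Lin N)) :=
    Nat.Coprime.coprime_dvd_left hθb hbm
  have hm1 : ∀ f : Lin N, f ^ (Nat.card (Lin N) * 1) = 1 := by
    intro f; rw [mul_one]; exact pow_card_lin f
  obtain ⟨μ, hμ, hdet, hst⟩ := exists_canonical (G := G) (Nat.coprime_one_right _) hm1 θ hco
  have hst' : ∀ f : Lin N, St (tw f (tw μ θ)) = MulAction.stabilizer G f ⊓ St (tw μ θ) :=
    fun f => hst f (pow_card_lin f)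
  by_cases hμ1 : μ = 1
  · right
    rw [hμ1, tw_one] at hst' hdet
    refine ⟨θ, ?_, hθb, hst'⟩
    intro h1
    apply hθ
    rw [eq_lin_of_degree h1]
    rw [pow_one] at hdet
    rw [hdet, lin_one]
  · left
    refine ⟨μ⁻¹, by rwa [ne_eq, inv_eq_one], ?_⟩
    have h1 := hst' μ⁻¹
    rw [← tw_mul, inv_mul_cancel, tw_one] at h1
    have h2 : St θ ≤ MulAction.stabilizer G μ⁻¹ := by rw [h1]; exact inf_le_left
    exact (Subgroup.index_dvd_of_le h2).trans hStb

theorem near_of_coprime [Finite G] [hN : N.Normal] [hsol : Group.IsSolvable N]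
    (hNI : ∀ f : Lin N, (∀ g : G, g • f = f) → f = 1) (hNG : N ≤ commutator G)
    {b c : ℕ} (hb : b ∈ relCharDegrees N) (hc : c ∈ relCharDegrees N)
    (hbm : b.Coprime (Nat.card (Lin N))) (hcm : c.Coprime (Nat.card (Lin N)))
    (hb' : ∀ y ∈ relCharDegrees N, ¬ y.Coprime (Nat.card (Lin N)) → y.Coprime b)
    (hc' : ∀ y ∈ relCharDegrees N, ¬ y.Coprime (Nat.card (Lin N)) → y.Coprime c) :
    Near (relCharDegrees N) b c := by
  have key : ∀ {b c : ℕ} {f : Lin N} {θ : IrrCharacter N}, f ≠ 1 →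
      (MulAction.stabilizer G f).index ∣ b → charDegree (θ : N → ℂ) ≠ 1 →
      charDegree (θ : N → ℂ) ∣ c → (∀ f : Lin N, St (tw f θ) = MulAction.stabilizer G f ⊓ St θ) →
      Near (relCharDegrees N) b c := by
    intro b c f θ hf hfb hθ1 hθc hst
    obtain ⟨y, hy⟩ := exists_ov (G := G) (tw f θ)
    have hne : tw f θ ≠ triv N := by
      intro h1
      have h2 := charDegree_tw f θ
      rw [h1, charDegree_triv] at h2
      exact hθ1 h2.symm
    have hyd := ov_dvd hy
    rw [charDegree_tw, hst f] at hyd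
    have h1 : (MulAction.stabilizer G f).index ∣ y :=
      (Subgroup.index_dvd_of_le inf_le_left).trans ((Dvd.intro _ rfl).trans hyd)
    have h2 : charDegree (θ : N → ℂ) ∣ y := (Dvd.intro_left _ rfl).trans hyd
    exact near_of_dvd (mem_rel hne hy) (index_ne_one hNI hf) hθ1 hfb h1 h2 hθc
  rcases typ_coprime hb hbm with ⟨f, hf, hfb⟩ | ⟨θ, hθ1, hθb, hθs⟩
  · rcases typ_coprime hc hcm with ⟨f', hf', hfc⟩ | ⟨θ', hθ1', hθc', hθs'⟩
    · exact near_lin hNI hbm hcm hf hf' hfb hfc
    · exact key hf hfb hθ1' hθc' hθs'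
  · rcases typ_coprime hc hcm with ⟨f', hf', hfc⟩ | ⟨θ', hθ1', hθc', hθs'⟩
    · exact (key hf' hfc hθ1 hθb hθs).symm
    · left
      -- `N` is not abelian
      have hK : commutator N ≠ ⊥ := by
        intro h1
        apply hθ1
        exact degree_of_over (commutator N) le_rfl θ (fun n hn => by
          rw [h1, Subgroup.mem_bot] at hn; rw [hn])
      have hlt : ⁅commutator N, commutator N⁆ < commutator N := by
        haveI : Group.IsSolvable (commutator N) := inferInstance
        haveI : Nontrivial (commutator N) := (Subgroup.nontrivial_iff_ne_bot _).2 hK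
        have h1 : commutator (commutator N) < ⊤ := Group.IsSolvable.commutator_lt_top_of_nontrivial _
        rw [← Subgroup.map_subtype_commutator]
        refine lt_of_le_of_ne (Subgroup.map_subtype_le _) ?_
        intro h2
        apply h1.ne
        rw [eq_top_iff]
        intro x _
        have h3 : (x : N) ∈ (commutator (commutator N)).map (commutator N).subtype := by
          rw [h2]; exact x.2
        obtain ⟨y, hy, hyx⟩ := h3
        have : y = x := Subtype.ext hyx
        rwa [← this]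
      obtain ⟨r, hr, hcp⟩ := common_prime hlt
      have hcard : Nat.card (Lin N) = (commutator N).index := Lin.card
      have key2 : ∀ {b : ℕ} {θ : IrrCharacter N}, b ∈ relCharDegrees N →
          b.Coprime (Nat.card (Lin N)) →
          (∀ y ∈ relCharDegrees N, ¬ y.Coprime (Nat.card (Lin N)) → y.Coprime b) →
          charDegree (θ : N → ℂ) ≠ 1 → charDegree (θ : N → ℂ) ∣ b → r ∣ b := by
        intro b θ hb hbm hb' hθ1 hθb
        by_contra hrb
        obtain ⟨ψ, hψ1, hψ2⟩ := hcp θ (hcard ▸ Nat.Coprime.coprime_dvd_left hθb hbm)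
          (fun h => hrb (h.trans hθb))
        obtain ⟨y, hy⟩ := exists_ov (G := G) ψ
        have hne : ψ ≠ triv N := by
          intro h1
          rw [h1, charDegree_triv, Nat.dvd_one] at hψ1
          exact hθ1 hψ1
        have hyd : charDegree (ψ : N → ℂ) ∣ y := (Dvd.intro_left _ rfl).trans (ov_dvd hy)
        have h1 := hb' y (mem_rel hne hy) (by
          intro h2
          rw [hcard] at h2
          exact hψ2 (Nat.Coprime.coprime_dvd_left hyd h2))
        exact hθ1 (Nat.eq_one_of_dvd_coprimes h1 (hψ1.trans hyd) hθb)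
      have h1 := key2 hb hbm hb' hθ1 hθb
      have h2 := key2 hc hcm hc' hθ1' hθc'
      intro h3
      exact hr.one_lt.ne' (Nat.eq_one_of_dvd_coprimes h3 h1 h2)

end near

end H82.Rel
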