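import Mathlib
import Cfsg.Agent.Lib.H82.U3F
import Cfsg.Agent.Lib.H27.AB3
import Cfsg.Agent.Lib.Lead.TwoRankTwo
import Cfsg.Agent.S1141

/-!
# Groups with Sylow 2-subgroups of type `U₃(2^n)`, part 10: the inputs
-/

set_option autoImplicit false
set_option linter.unusedVariables false
set_option linter.unusedSectionVars false
set_option linter.style.haveILetI false

namespace H82.U3

open Subgroup Cfsg
open scoped Pointwise

universe u

theorem lemE : LemE.{u} := by
  intro K _ _ _ hK P hP hC x hx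
  haveI : Fact (Nat.Prime 2) := ⟨Nat.prime_two⟩
  have hK' : ∃ x y : K, x * y ≠ y * x := by
    by_contra hcon
    push Not at hcon
    exact hK ⟨⟨hcon⟩⟩
  by_cases h3 : PRankLE 2 2 ↥(P : Subgroup K)
  · have hcomm : ∀ a b : (P : Subgroup K), a * b = b * a := fun a b => Subtype.ext (hP a a.2 b b.2)
    letI : Fintype (GaloisField 2 4) := Fintype.ofFinite _
    have hF : Fintype.card (GaloisField 2 4) = 16 := by
      rw [← Nat.card_eq_fintype_card, GaloisField.card 2 4 (by norm_num)]; norm_num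
    let Q : Sylow 2 (Cfsg.PSU 3 (GaloisField 2 4) 4) := default
    rcases Lead.TwoRankTwo.main (fun X _ _ h => Cfsg.Agent.S0205.result h) hK (H27.AB.prank_of_sylow P h3) P hF Q with
      ⟨n, hn, ⟨e⟩⟩ | h | h | ⟨⟨e⟩⟩
    · have h4 := H27.AB.dihedral_comm hn e hcomm
      have h5 : Nat.card (DihedralGroup n) = 4 := by rw [← Nat.card_congr e.toEquiv, h4]
      rw [DihedralGroup.nat_card] at h5
      have h6 : n = 2 := by omega
      subst h6
      have h7 : ∀ y : DihedralGroup 2, y * y = 1 := by decide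
      have h8 := h7 (e ⟨x, hx⟩)
      rw [← map_mul, map_eq_one_iff _ e.injective] at h8
      exact congrArg Subtype.val h8
    · exact absurd h (H27.AB.not_qd hcomm)
    · exact absurd h (H27.AB.not_wr hcomm)
    · exfalso
      obtain ⟨-, -, -, -, ⟨x, y, hxy⟩, -⟩ := Cfsg.Agent.S1141.result (F := GaloisField 2 4) (n := 2) le_rfl
        (by rw [hF]; norm_num) Q
      apply hxy
      have := hcomm (e.symm x) (e.symm y)
      rw [← map_mul, ← map_mul] at this
      exact e.symm.injective this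
  · obtain ⟨M, hM⟩ := H27.AB.exists_se hK' P hP hC h3
    obtain ⟨F, iF, iFf, ⟨n, hn, hc⟩, ⟨e⟩⟩ := H27.AB.psl_of_se H18.Bender.bender H27.AB.rankOne P hP hM
    obtain ⟨k, hk⟩ := P.2 ⟨x, hx⟩
    have hk' : x ^ 2 ^ k = 1 := congrArg Subtype.val hk
    have h4 := psl_sq (two_eq_zero hc) (e x) ⟨k, by rw [← map_pow, hk', map_one]⟩
    rwa [← map_mul, map_eq_one_iff _ e.injective] at h4

theorem benderN (G : Type u) [Group G] [Finite G] (hO : pPrimeCore 2 G = ⊥) (M : Subgroup G)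
    (hM : IsStronglyEmbedded M)
    (h4 : ∃ v w : G, v ≠ w ∧ orderOf v = 2 ∧ orderOf w = 2 ∧ v * w = w * v) :
    ∃ N : Subgroup G, N.Normal ∧ Odd N.index ∧ CU N := by
  have B := H83.BdC.beta_of_se H18.Bender.bender.{u, u} hM h4
  obtain ⟨L, hLn, hLi, hLC⟩ := H83.BdC.concl_of_beta H27.AB.rankOne B
  have hcore : M.normalCore = ⊥ := by
    rw [eq_bot_iff, ← hO]
    exact H1.Cores.le_pPrimeCore inferInstance (Nat.coprime_two_right.2 (H83.BdC.core_odd B))
  have hinj : Function.Injective (MulAction.toPermHom G (G ⧸ M)) := by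
    rw [← MonoidHom.ker_eq_bot_iff, ← Subgroup.normalCore_eq_ker, hcore]
  have e : G ≃* (MulAction.toPermHom G (G ⧸ M)).range := MonoidHom.ofInjective hinj
  refine ⟨L.comap e.toMonoidHom, Subgroup.Normal.comap hLn _, ?_, ?_⟩
  · rw [Subgroup.index_comap_of_surjective _ e.surjective]
    exact hLi
  · have f : ↥(L.comap e.toMonoidHom) ≃* L :=
      (e.subgroupMap (L.comap e.toMonoidHom)).trans (MulEquiv.subgroupCongr
        (Subgroup.map_comap_eq_self_of_surjective e.surjective L))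
    rcases hLC with ⟨F, iF, iFf, hn, ⟨g⟩⟩ | ⟨F, iF, iFf, m, hm, hc, ⟨g⟩⟩ | ⟨F, iF, iFf, n, hn, hc, ⟨g⟩⟩
    · exact Or.inl ⟨F, iF, iFf, hn, ⟨f.trans g⟩⟩
    · exact Or.inr (Or.inl ⟨F, iF, iFf, m, hm, hc, ⟨f.trans g⟩⟩)
    · exact Or.inr (Or.inr ⟨F, iF, iFf, n, hn, hc, ⟨f.trans g⟩⟩)

end H82.U3
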